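import Cfsg.Agent.H424.Spr.Count

/-!
# 3/2-generation: more criteria (helper424, for helper862's S3938)

`spr_of_two'` : the criterion with two overgroups, without the hypothesis that they are coatoms.
`of_normal` : descent of `spr_of_one`, `spr_of_two'` along a surjection `f : G →* L` (linear groups).
-/

set_option autoImplicit false
set_option linter.unusedSectionVars false

namespace Cfsg.Agent.H424.Spr

open scoped Pointwise

variable {L : Type*} [Group L] [IsSimpleGroup L] [Finite L]

/-- **U2'** -/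
theorem spr_of_two' (hna : ∃ x y : L, x * y ≠ y * x) {s : L} {M₁ M₂ : Subgroup L} (h1 : M₁ ≠ ⊤)
    (h2 : M₂ ≠ ⊤) (hnc : ∀ y : L, c y • M₁ = M₂ → M₁ = M₂)
    (h : ∀ K : Subgroup L, s ∈ K → K ≠ ⊤ → K ≤ M₁ ∨ K ≤ M₂) : Spr L := by
  by_cases g1 : M₁ ≤ M₂
  · exact spr_of_one hna (s := s) h2 fun K hs hK => (h K hs hK).elim (fun h => h.trans g1) id
  by_cases g2 : M₂ ≤ M₁
  · exact spr_of_one hna (s := s) h1 fun K hs hK => (h K hs hK).elim id (fun h => h.trans g2)
  by_cases s1 : s ∈ M₁
  · by_cases s2 : s ∈ M₂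
    · refine spr_of_two hna ⟨h1, fun K hK => ?_⟩ ⟨h2, fun K hK => ?_⟩ ?_ h
      · by_contra hne
        rcases h K (hK.le s1) hne with h3 | h3
        · exact absurd (hK.trans_le h3) (lt_irrefl _)
        · exact g1 (hK.le.trans h3)
      · by_contra hne
        rcases h K (hK.le s2) hne with h3 | h3
        · exact g2 (hK.le.trans h3)
        · exact absurd (hK.trans_le h3) (lt_irrefl _)
      · intro y hy
        exact g1 (hnc y hy).le
    · exact spr_of_one hna (s := s) h1 fun K hs hK => (h K hs hK).elim id fun h3 => absurd (h3 hs) s2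
  · exact spr_of_one hna (s := s) h2 fun K hs hK => (h K hs hK).elim (fun h3 => absurd (h3 hs) s1) id

section descent

variable {G : Type*} [Group G]

/-- **U1 upstairs**: `f : G →* L` surjective, `s ∈ G`, every proper subgroup of `G` through `s` containing the
kernel lies in `M`, and `M ≠ ⊤` contains the kernel -/
theorem spr_of_one_up (hna : ∃ x y : L, x * y ≠ y * x) (f : G →* L) (hf : Function.Surjective f) {s : G}
    {M : Subgroup G} (hker : f.ker ≤ M) (hM : M ≠ ⊤)
    (h : ∀ K : Subgroup G, f.ker ≤ K → s ∈ K → K ≠ ⊤ → K ≤ M) : Spr L := by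
  have hcm : (M.map f).comap f = M := by rw [Subgroup.comap_map_eq, sup_eq_left.2 hker]
  refine spr_of_one hna (s := f s) (M := M.map f) ?_ fun K hs hK => ?_
  · intro htop
    apply hM
    rw [← hcm, htop, Subgroup.comap_top]
  · have h1 : K.comap f ≤ M := by
      refine h (K.comap f) ?_ hs ?_
      · intro x hx
        rw [MonoidHom.mem_ker] at hx
        rw [Subgroup.mem_comap, hx]
        exact K.one_mem
      · intro htop
        apply hK
        rw [← Subgroup.map_comap_eq_self_of_surjective hf K, htop, Subgroup.map_top_of_surjective f hf]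
    rw [← Subgroup.map_comap_eq_self_of_surjective hf K]
    exact Subgroup.map_mono h1

/-- **U2' upstairs** -/
theorem spr_of_two_up (hna : ∃ x y : L, x * y ≠ y * x) (f : G →* L) (hf : Function.Surjective f) {s : G}
    {M₁ M₂ : Subgroup G} (hker1 : f.ker ≤ M₁) (hker2 : f.ker ≤ M₂) (h1 : M₁ ≠ ⊤) (h2 : M₂ ≠ ⊤)
    (hnc : ∀ y : G, M₁.map (MulAut.conj y).toMonoidHom = M₂ → M₁ = M₂)
    (h : ∀ K : Subgroup G, f.ker ≤ K → s ∈ K → K ≠ ⊤ → K ≤ M₁ ∨ K ≤ M₂) : Spr L := by
  have hcm1 : (M₁.map f).comap f = M₁ := by rw [Subgroup.comap_map_eq, sup_eq_left.2 hker1]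
  have hcm2 : (M₂.map f).comap f = M₂ := by rw [Subgroup.comap_map_eq, sup_eq_left.2 hker2]
  refine spr_of_two' hna (s := f s) (M₁ := M₁.map f) (M₂ := M₂.map f) ?_ ?_ ?_ fun K hs hK => ?_
  · intro htop
    apply h1
    rw [← hcm1, htop, Subgroup.comap_top]
  · intro htop
    apply h2
    rw [← hcm2, htop, Subgroup.comap_top]
  · intro y hy
    obtain ⟨z, rfl⟩ := hf y
    have h3 : M₁.map (MulAut.conj z).toMonoidHom = M₂ := by
      have h4 : (M₁.map (MulAut.conj z).toMonoidHom).map f = M₂.map f := by
        rw [← hy]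
        change _ = (M₁.map f).map (MulAut.conj (f z)).toMonoidHom
        rw [Subgroup.map_map, Subgroup.map_map]
        congr 1
        ext x
        simp [MulAut.conj_apply]
      have hker3 : f.ker ≤ M₁.map (MulAut.conj z).toMonoidHom := by
        intro x hx
        refine ⟨z⁻¹ * x * z, hker1 ?_, ?_⟩
        · rw [MonoidHom.mem_ker] at hx ⊢
          rw [map_mul, map_mul, hx, mul_one, map_inv, inv_mul_cancel]
        · change z * (z⁻¹ * x * z) * z⁻¹ = x
          group
      have hcm3 : ((M₁.map (MulAut.conj z).toMonoidHom).map f).comap f = M₁.map (MulAut.conj z).toMonoidHom := by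
        rw [Subgroup.comap_map_eq, sup_eq_left.2 hker3]
      rw [← hcm3, h4, hcm2]
    rw [hnc z h3]
  · have h3 : K.comap f ≤ M₁ ∨ K.comap f ≤ M₂ := by
      refine h (K.comap f) ?_ hs ?_
      · intro x hx
        rw [MonoidHom.mem_ker] at hx
        rw [Subgroup.mem_comap, hx]
        exact K.one_mem
      · intro htop
        apply hK
        rw [← Subgroup.map_comap_eq_self_of_surjective hf K, htop, Subgroup.map_top_of_surjective f hf]
    rw [← Subgroup.map_comap_eq_self_of_surjective hf K]
    exact h3.imp (fun h => Subgroup.map_mono h) fun h => Subgroup.map_mono h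

end descent

end Cfsg.Agent.H424.Spr
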