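import Cfsg.Agent.H424.Spr.AltB
import Cfsg.Prelude.Def_Classification2
import Cfsg.Agent.SmallSimple.Embed

/-!
# 3/2-generation of the alternating groups: even degree, degrees five and six, the row (helper424)
-/

set_option autoImplicit false
set_option linter.unusedSectionVars false

namespace Cfsg.Agent.H424.SprAlt

open Equiv Equiv.Perm MulAction Subgroup
open scoped Pointwise
open Cfsg.Agent.H424.Spr

lemma top_of_le {n : ℕ} {K : Subgroup (alternatingGroup (Fin n))}
    (h : alternatingGroup (Fin n) ≤ K.map (alternatingGroup (Fin n)).subtype) : K = ⊤ := by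
  rw [eq_top_iff]
  intro y _
  obtain ⟨k, hk, hky⟩ := h y.2
  have : k = y := Subtype.ext hky
  rw [← this]
  exact hk

/-- even degree at least eight -/
theorem spr_even {m : ℕ} (hm : 4 ≤ m)
    (hna : ∃ x y : alternatingGroup (Fin (2 * m)), x * y ≠ y * x) : Spr (alternatingGroup (Fin (2 * m))) := by
  have : IsSimpleGroup (alternatingGroup (Fin (2 * m))) := alternatingGroup.isSimpleGroup (by
    rw [Nat.card_eq_fintype_card, Fintype.card_fin]; omega)
  obtain ⟨p, hp, hpo, hpm, hp3, hpm'⟩ := exists_prime hm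
  obtain ⟨P, -, hP⟩ := Finset.exists_subset_card_eq (s := (Finset.univ : Finset (Fin (2 * m)))) (n := p)
    (by rw [Finset.card_univ, Fintype.card_fin]; omega)
  set Q : Finset (Fin (2 * m)) := Finset.univ \ P with hQdef
  have hQ : Q.card = 2 * m - p := by
    rw [hQdef, Finset.card_sdiff_of_subset (Finset.subset_univ _), Finset.card_univ, Fintype.card_fin, hP]
  have hQo : Odd (2 * m - p) := by
    obtain ⟨k, hk⟩ := hpo
    exact ⟨m - k - 1, by omega⟩
  have hd : Disjoint P Q := Finset.disjoint_sdiff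
  have hcov : ∀ x, x ∈ P ∨ x ∈ Q := by
    intro x
    by_cases h : x ∈ P
    · exact Or.inl h
    · exact Or.inr (by simp [hQdef, h])
  have hcop : P.card.Coprime Q.card := by
    rw [hP, hQ, Nat.Prime.coprime_iff_not_dvd hp]
    intro h
    apply hpm
    have h4 : p ∣ (2 * m - p) + p := h.add (dvd_refl p)
    have h5 : 2 * m - p + p = 2 * m := by omega
    rwa [h5] at h4
  obtain ⟨s, c, sP, sQ, cP, csup, hsign, N, hN⟩ := exists_double hd (by rw [hP]; exact hp.one_le) (by rw [hQ]; omega) hcop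
  have hs1 : sign s = 1 := by
    rw [hsign, hP, hQ, hpo.neg_one_pow, hQo.neg_one_pow]
    simp
  refine spr_of_one hna (s := ⟨s, Perm.mem_alternatingGroup.2 hs1⟩)
    (M := (stabilizer (Perm (Fin (2 * m))) (P : Set (Fin (2 * m)))).subgroupOf (alternatingGroup (Fin (2 * m)))) ?_ ?_
  · intro htop
    rw [Subgroup.subgroupOf_eq_top] at htop
    obtain ⟨u, hu⟩ : P.Nonempty := Finset.card_pos.1 (by rw [hP]; exact hp.pos)
    obtain ⟨v, w, hv, hw, hvw⟩ : ∃ v w, v ∈ Q ∧ w ∈ Q ∧ v ≠ w := by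
      have h1 : 1 < Q.card := by rw [hQ]; omega
      obtain ⟨v, hv, w, hw, h⟩ := Finset.one_lt_card.1 h1
      exact ⟨v, w, hv, hw, h⟩
    have huv : u ≠ v := fun h => (Finset.disjoint_left.1 hd) hu (h ▸ hv)
    have huw : u ≠ w := fun h => (Finset.disjoint_left.1 hd) hu (h ▸ hw)
    have h1 : swap u v * swap v w ∈ alternatingGroup (Fin (2 * m)) := by
      rw [Perm.mem_alternatingGroup, Perm.sign_mul, sign_swap huv, sign_swap hvw]
      rfl
    have h2 := apply_of_stab (htop h1) (x := u) (Finset.mem_coe.2 hu)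
    rw [Perm.mul_apply, swap_apply_of_ne_of_ne huv huw, swap_apply_left] at h2
    exact (Finset.disjoint_left.1 hd) (Finset.mem_coe.1 h2) hv
  · intro K hsK hK
    by_contra hKM
    apply hK
    obtain ⟨k, hkK, hkM⟩ := Set.not_subset.1 hKM
    obtain ⟨u, hu, hku⟩ : ∃ u ∈ P, (k : Perm (Fin (2 * m))) u ∉ P := by
      by_contra hcon
      push Not at hcon
      apply hkM
      change (k : Perm (Fin (2 * m))) ∈ stabilizer (Perm (Fin (2 * m))) (P : Set (Fin (2 * m)))
      rw [mem_stabilizer_iff]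
      apply Set.eq_of_subset_of_ncard_le _ _ (Set.toFinite _)
      · rintro _ ⟨x, hx, rfl⟩
        exact hcon x hx
      · have : ((k : Perm (Fin (2 * m))) • (P : Set (Fin (2 * m)))) = (k : Perm (Fin (2 * m))) '' (P : Set (Fin (2 * m))) := rfl
        rw [this, Set.ncard_image_of_injective _ (k : Perm (Fin (2 * m))).injective]
    set H := K.map (alternatingGroup (Fin (2 * m))).subtype with hH
    have hsH : s ∈ H := ⟨_, hsK, rfl⟩
    have hkH : (k : Perm (Fin (2 * m))) ∈ H := ⟨_, hkK, rfl⟩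
    have hcH : c ∈ H := by rw [hN]; exact H.pow_mem hsH N
    have all : ∀ x, Rel H u x := by
      intro x
      rcases hcov x with h | h
      · exact rel_cycle hsH sP hu h
      · have h1 : Rel H u ((k : Perm (Fin (2 * m))) u) := ⟨_, hkH, rfl⟩
        exact h1.trans (rel_cycle hsH sQ ((hcov _).resolve_left hku) h)
    have htr : IsPretransitive H (Fin (2 * m)) := by
      constructor
      intro x y
      obtain ⟨h, hh, hxy⟩ := (all x).symm.trans (all y)
      exact ⟨⟨h, hh⟩, hxy⟩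
    have hprim := prim_two htr hsH hcH hp hP hcov hd sP sQ cP csup (by
      rw [Nat.card_eq_fintype_card, Fintype.card_fin]; exact hpm)
    exact top_of_le (jordan H hprim hp (by rw [Fintype.card_fin]; exact hp3) cP csup hP hcH)

section six

def s6 : Perm (Fin 6) := ⟨![1,2,3,4,0,5], ![4,0,1,2,3,5], by decide, by decide⟩
def k1 : Perm (Fin 6) := ⟨![5,4,2,3,1,0], ![5,4,2,3,1,0], by decide, by decide⟩
def k2 : Perm (Fin 6) := ⟨![5,1,3,2,4,0], ![5,1,3,2,4,0], by decide, by decide⟩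
def fx (w : Perm (Fin 6)) : Prop := (w.support).card = 3
instance : DecidablePred fx := fun w => by unfold fx; infer_instance

set_option maxRecDepth 100000 in
theorem words : ∀ k : Perm (Fin 6), k 5 = 0 → k 0 = 5 → sign k = 1 →
    k = k1 ∨ k = k2 ∨ fx (s6*s6*s6*k*s6*s6*k*s6*k) ∨ fx (s6*s6*s6*k*s6*k*s6*s6*k) ∨ fx (s6*s6*k*k) ∨
    fx (s6*s6*k*k*k*s6*k) ∨ fx (s6*s6*k*s6*k*k*k) ∨ fx (s6*k*k) ∨ fx (s6*k) ∨ fx (s6*s6*k) := by
  decide +kernel

lemma k2_eq : s6*s6*k1*s6*s6*s6*k1*s6*s6 = k2 := by decide +kernel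
lemma k1_eq : s6*k2*s6*s6*s6*s6*k2*s6 = k1 := by decide +kernel
lemma to_zero : ∀ a : Fin 6, a ≠ 5 → ∃ i : Fin 5, (s6 ^ (i : ℕ)) a = 0 := by decide +kernel
lemma from_zero : ∀ a : Fin 6, a ≠ 5 → ∃ i : Fin 5, (s6 ^ (i : ℕ)) 0 = a := by decide +kernel

/-- the points of the five-cycle -/
def P6 : Finset (Fin 6) := {0, 1, 2, 3, 4}

lemma s6_cycle : s6.IsCycleOn P6 := by
  refine ⟨⟨?_, s6.injective.injOn, ?_⟩, ?_⟩
  · intro x hx
    have : ∀ x ∈ P6, s6 x ∈ P6 := by decide
    exact this x hx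
  · intro x hx
    have : ∀ x ∈ P6, ∃ y ∈ P6, s6 y = x := by decide
    exact this x hx
  · intro x hx y hy
    have : ∀ x ∈ P6, ∀ y ∈ P6, ∃ i : Fin 5, (s6 ^ (i : ℕ)) x = y := by decide +kernel
    obtain ⟨i, hi⟩ := this x hx y hy
    exact ⟨(i : ℕ), by rw [zpow_natCast]; exact hi⟩

lemma six_prim {H : Subgroup (Perm (Fin 6))} (hs : s6 ∈ H) {g : Perm (Fin 6)} (hg : g ∈ H) (hg5 : g 5 ≠ 5) :
    IsPreprimitive H (Fin 6) := by
  have hg' : g 5 ∈ P6 := by
    have : ∀ x : Fin 6, x ≠ 5 → x ∈ P6 := by decide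
    exact this _ hg5
  have all : ∀ x, Rel H 5 x := by
    intro x
    by_cases hx : x = 5
    · exact ⟨1, H.one_mem, by rw [hx]; rfl⟩
    · have hx' : x ∈ P6 := by
        have : ∀ x : Fin 6, x ≠ 5 → x ∈ P6 := by decide
        exact this _ hx
      exact Rel.trans ⟨g, hg, rfl⟩ (rel_cycle hs s6_cycle hg' hx')
  have htr : IsPretransitive H (Fin 6) := by
    constructor
    intro x y
    obtain ⟨h, hh, hxy⟩ := (all x).symm.trans (all y)
    exact ⟨⟨h, hh⟩, hxy⟩
  refine prim_two (Q := {5}) htr hs hs (p := 5) (by norm_num) (P := P6) rfl (by decide) (by decide) s6_cycle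
    (by rw [Finset.coe_singleton, Perm.isCycleOn_singleton]; decide) s6_cycle (by decide +kernel)
    (by rw [Nat.card_eq_fintype_card, Fintype.card_fin]; norm_num)

abbrev A6 := alternatingGroup (Fin 6)

lemma s6_mem : s6 ∈ A6 := by rw [Perm.mem_alternatingGroup]; decide +kernel
lemma k1_mem : k1 ∈ A6 := by rw [Perm.mem_alternatingGroup]; decide +kernel

/-- a subgroup containing `s6`, an element moving `5` and a three-cycle is everything -/
lemma six_top {K : Subgroup A6} (hs : (⟨s6, s6_mem⟩ : A6) ∈ K) {g : A6} (hg : g ∈ K) (hg5 : g.1 5 ≠ 5)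
    {t : A6} (ht : t ∈ K) (ht3 : t.1.IsThreeCycle) : K = ⊤ :=
  top_of_le (alternatingGroup_le_of_isPreprimitive_of_isThreeCycle_mem
    (six_prim (H := K.map (alternatingGroup (Fin 6)).subtype) ⟨_, hs, rfl⟩ ⟨_, hg, rfl⟩ hg5) ht3 ⟨_, ht, rfl⟩)

def M2 : Subgroup A6 := Subgroup.closure {⟨s6, s6_mem⟩, ⟨k1, k1_mem⟩}

lemma s6_M2 : (⟨s6, s6_mem⟩ : A6) ∈ M2 := Subgroup.subset_closure (Set.mem_insert _ _)
lemma k1_M2 : (⟨k1, k1_mem⟩ : A6) ∈ M2 := Subgroup.subset_closure (Set.mem_insert_of_mem _ rfl)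

/-- a proper subgroup containing `s6` and moving `5` is `M2` -/
lemma six_cover {K : Subgroup A6} (hs : (⟨s6, s6_mem⟩ : A6) ∈ K) (hK : K ≠ ⊤) {g₀ : A6} (hg₀ : g₀ ∈ K)
    (hg₀5 : g₀.1 5 ≠ 5) : K = M2 := by
  have no3 : ∀ t ∈ K, ¬ t.1.IsThreeCycle := fun t ht h3 => hK (six_top hs hg₀ hg₀5 ht h3)
  -- normalising an element moving `5`
  have norm : ∀ g : A6, g.1 5 ≠ 5 → ∃ i j : ℕ, ((⟨s6, s6_mem⟩ : A6) ^ i * g * (⟨s6, s6_mem⟩ : A6) ^ j).1 5 = 0 ∧
      ((⟨s6, s6_mem⟩ : A6) ^ i * g * (⟨s6, s6_mem⟩ : A6) ^ j).1 0 = 5 := by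
    intro g hg
    obtain ⟨i, hi⟩ := to_zero _ hg
    have hb : g.1⁻¹ 5 ≠ 5 := by
      intro h
      apply hg
      rw [Perm.inv_eq_iff_eq] at h
      exact h.symm
    have fix5 : ∀ n : ℕ, (s6 ^ n) 5 = 5 := fun n =>
      Perm.pow_apply_eq_self_of_apply_eq_self (show s6 5 = 5 by decide) n
    obtain ⟨j, hj⟩ := from_zero _ hb
    refine ⟨i, j, ?_, ?_⟩
    · change (s6 ^ (i : ℕ) * g.1 * s6 ^ (j : ℕ)) 5 = 0
      rw [Perm.mul_apply, Perm.mul_apply, fix5, hi]
    · change (s6 ^ (i : ℕ) * g.1 * s6 ^ (j : ℕ)) 0 = 5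
      rw [Perm.mul_apply, Perm.mul_apply, hj]
      have e : g.1 (g.1⁻¹ 5) = 5 := by simp
      rw [e, fix5]
  -- normalised elements
  have fin : ∀ g ∈ K, g.1 5 = 0 → g.1 0 = 5 → g.1 = k1 ∨ g.1 = k2 := by
    intro g hg h5 h0
    set s : A6 := ⟨s6, s6_mem⟩ with hsd
    have three : ∀ w ∈ K, ¬ fx w.1 := fun w hw h => no3 w hw (card_support_eq_three_iff.1 h)
    have hsg : sign g.1 = 1 := Perm.mem_alternatingGroup.1 g.2
    rcases words g.1 h5 h0 hsg with h | h | h | h | h | h | h | h | h | h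
    · exact Or.inl h
    · exact Or.inr h
    · exact absurd h (three (s*s*s*g*s*s*g*s*g) (by
        repeat (first | exact hs | exact hg | apply Subgroup.mul_mem)))
    · exact absurd h (three (s*s*s*g*s*g*s*s*g) (by
        repeat (first | exact hs | exact hg | apply Subgroup.mul_mem)))
    · exact absurd h (three (s*s*g*g) (by
        repeat (first | exact hs | exact hg | apply Subgroup.mul_mem)))
    · exact absurd h (three (s*s*g*g*g*s*g) (by
        repeat (first | exact hs | exact hg | apply Subgroup.mul_mem)))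
    · exact absurd h (three (s*s*g*s*g*g*g) (by
        repeat (first | exact hs | exact hg | apply Subgroup.mul_mem)))
    · exact absurd h (three (s*g*g) (by
        repeat (first | exact hs | exact hg | apply Subgroup.mul_mem)))
    · exact absurd h (three (s*g) (by
        repeat (first | exact hs | exact hg | apply Subgroup.mul_mem)))
    · exact absurd h (three (s*s*g) (by
        repeat (first | exact hs | exact hg | apply Subgroup.mul_mem)))
  have k2M : ∀ g : A6, g.1 = k2 → g ∈ M2 := by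
    intro g hg
    set s : A6 := ⟨s6, s6_mem⟩ with hsd
    set k : A6 := ⟨k1, k1_mem⟩ with hkd
    have e : g = s*s*k*s*s*s*k*s*s := Subtype.ext (by rw [hg]; exact k2_eq.symm)
    rw [e]
    have hs := s6_M2
    have hk := k1_M2
    repeat (first | exact hs | exact hk | apply Subgroup.mul_mem)
  have memM : ∀ g ∈ K, g.1 5 ≠ 5 → g ∈ M2 := by
    intro g hg hg5
    obtain ⟨i, j, h5, h0⟩ := norm g hg5
    have hmem : (⟨s6, s6_mem⟩ : A6) ^ i * g * (⟨s6, s6_mem⟩ : A6) ^ j ∈ K :=
      K.mul_mem (K.mul_mem (K.pow_mem hs i) hg) (K.pow_mem hs j)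
    have h1 : (⟨s6, s6_mem⟩ : A6) ^ i * g * (⟨s6, s6_mem⟩ : A6) ^ j ∈ M2 := by
      rcases fin _ hmem h5 h0 with h | h
      · have e : (⟨s6, s6_mem⟩ : A6) ^ i * g * (⟨s6, s6_mem⟩ : A6) ^ j = ⟨k1, k1_mem⟩ := Subtype.ext h
        rw [e]; exact k1_M2
      · exact k2M _ h
    have h2 := M2.mul_mem (M2.mul_mem (M2.inv_mem (M2.pow_mem s6_M2 i)) h1) (M2.inv_mem (M2.pow_mem s6_M2 j))
    have e : ((⟨s6, s6_mem⟩ : A6) ^ i)⁻¹ * ((⟨s6, s6_mem⟩ : A6) ^ i * g * (⟨s6, s6_mem⟩ : A6) ^ j) *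
        ((⟨s6, s6_mem⟩ : A6) ^ j)⁻¹ = g := by group
    rwa [e] at h2
  -- `k1 ∈ K`
  have k1K : (⟨k1, k1_mem⟩ : A6) ∈ K := by
    obtain ⟨i, j, h5, h0⟩ := norm g₀ hg₀5
    have hmem : (⟨s6, s6_mem⟩ : A6) ^ i * g₀ * (⟨s6, s6_mem⟩ : A6) ^ j ∈ K :=
      K.mul_mem (K.mul_mem (K.pow_mem hs i) hg₀) (K.pow_mem hs j)
    rcases fin _ hmem h5 h0 with h | h
    · have e : (⟨s6, s6_mem⟩ : A6) ^ i * g₀ * (⟨s6, s6_mem⟩ : A6) ^ j = ⟨k1, k1_mem⟩ := Subtype.ext h
      rwa [e] at hmem
    · set k := (⟨s6, s6_mem⟩ : A6) ^ i * g₀ * (⟨s6, s6_mem⟩ : A6) ^ j with hk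
      set s : A6 := ⟨s6, s6_mem⟩ with hsd
      have e : (⟨k1, k1_mem⟩ : A6) = s*k*s*s*s*s*k*s := Subtype.ext (by
        change k1 = s6*k.1*s6*s6*s6*s6*k.1*s6
        rw [h]; exact k1_eq.symm)
      rw [e]
      repeat (first | exact hs | exact hmem | apply Subgroup.mul_mem)
  apply le_antisymm
  · intro g hg
    by_cases hg5 : g.1 5 = 5
    · have h1 : g * ⟨k1, k1_mem⟩ ∈ M2 := by
        apply memM _ (K.mul_mem hg k1K)
        change (g.1 * k1) 5 ≠ 5
        rw [Perm.mul_apply]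
        have : k1 5 = 0 := by decide
        rw [this]
        intro h
        have h2 : g.1 0 = g.1 5 := by rw [h, hg5]
        exact absurd (g.1.injective h2) (by decide)
      have h2 := M2.mul_mem h1 (M2.inv_mem k1_M2)
      rwa [mul_inv_cancel_right] at h2
    · exact memM g hg hg5
  · unfold M2
    rw [Subgroup.closure_le]
    rintro x (rfl | rfl)
    · exact hs
    · exact k1K

def M1 : Subgroup A6 := (stabilizer (Perm (Fin 6)) (5 : Fin 6)).subgroupOf (alternatingGroup (Fin 6))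

lemma mem_M1 {g : A6} : g ∈ M1 ↔ g.1 5 = 5 := Iff.rfl

def t6 : Perm (Fin 6) := ⟨![1,2,0,3,4,5], ![2,0,1,3,4,5], by decide, by decide⟩
lemma t6_mem : t6 ∈ A6 := by rw [Perm.mem_alternatingGroup]; decide +kernel
lemma t6_three : t6.IsThreeCycle := card_support_eq_three_iff.1 (by decide +kernel)

theorem spr_six (hna : ∃ x y : A6, x * y ≠ y * x) : Spr A6 := by
  have : IsSimpleGroup A6 := alternatingGroup.isSimpleGroup (by
    rw [Nat.card_eq_fintype_card, Fintype.card_fin]; omega)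
  have hk5 : (⟨k1, k1_mem⟩ : A6).1 5 ≠ 5 := by
    change k1 5 ≠ 5
    decide
  have hM1 : M1 ≠ ⊤ := by
    intro h
    have : (⟨k1, k1_mem⟩ : A6) ∈ M1 := by rw [h]; trivial
    exact hk5 (mem_M1.1 this)
  have cover : ∀ K : Subgroup A6, (⟨s6, s6_mem⟩ : A6) ∈ K → K ≠ ⊤ → K ≤ M1 ∨ K = M2 := by
    intro K hs hK
    by_cases h : K ≤ M1
    · exact Or.inl h
    · right
      obtain ⟨g, hg, hg'⟩ := Set.not_subset.1 h
      exact six_cover hs hK hg (fun h5 => hg' (mem_M1.2 h5))
  by_cases hM2 : M2 = ⊤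
  · refine spr_of_one hna (s := ⟨s6, s6_mem⟩) hM1 fun K hs hK => ?_
    rcases cover K hs hK with h | h
    · exact h
    · exact absurd (h.trans hM2) hK
  · have c2 : IsCoatom M2 := by
      refine ⟨hM2, fun K hK => ?_⟩
      by_contra hne
      rcases cover K (hK.le s6_M2) hne with h | h
      · exact hk5 (mem_M1.1 (h (hK.le k1_M2)))
      · exact hK.ne h.symm
    have c1 : IsCoatom M1 := by
      refine ⟨hM1, fun K hK => ?_⟩
      by_contra hne
      have hs1 : (⟨s6, s6_mem⟩ : A6) ∈ M1 := mem_M1.2 (by change s6 5 = 5; decide)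
      have ht1 : (⟨t6, t6_mem⟩ : A6) ∈ M1 := mem_M1.2 (by change t6 5 = 5; decide)
      obtain ⟨g, hg, hg'⟩ := Set.exists_of_ssubset hK
      exact hne (six_top (hK.le hs1) hg (fun h5 => hg' (mem_M1.2 h5)) (hK.le ht1) t6_three)
    refine spr_of_two hna c1 c2 (s := ⟨s6, s6_mem⟩) ?_ ?_
    · intro y hy
      have ht1 : (⟨t6, t6_mem⟩ : A6) ∈ M1 := mem_M1.2 (by change t6 5 = 5; decide)
      have h1 := mem_smul (c y) ht1
      rw [hy] at h1
      apply hM2
      refine six_top s6_M2 k1_M2 hk5 h1 ?_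
      change (y.1 * t6 * y.1⁻¹).IsThreeCycle
      rw [Perm.IsThreeCycle, Perm.cycleType_conj]
      exact t6_three
    · intro K hs hK
      rcases cover K hs hK with h | h
      · exact Or.inl h
      · exact Or.inr h.le

end six

section five

def s5 : Perm (Fin 5) := ⟨![1,2,3,4,0], ![4,0,1,2,3], by decide, by decide⟩
lemma s5_mem : s5 ∈ alternatingGroup (Fin 5) := by rw [Perm.mem_alternatingGroup]; decide +kernel

theorem spr_five (hna : ∃ x y : alternatingGroup (Fin 5), x * y ≠ y * x) : Spr (alternatingGroup (Fin 5)) := by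
  have hsimp : IsSimpleGroup (alternatingGroup (Fin 5)) := alternatingGroup.isSimpleGroup (by
    rw [Nat.card_eq_fintype_card, Fintype.card_fin])
  have hnc : ¬ IsMulCommutative (alternatingGroup (Fin 5)) := by
    intro h
    obtain ⟨x, y, hxy⟩ := hna
    exact hxy (h.is_comm.comm x y)
  have hcard : Nat.card (alternatingGroup (Fin 5)) = 60 := by
    have h := two_mul_nat_card_alternatingGroup (α := Fin 5)
    rw [Nat.card_eq_fintype_card (α := Equiv.Perm _), Fintype.card_perm, Fintype.card_fin] at h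
    have : Nat.factorial 5 = 120 := by decide
    omega
  set s : alternatingGroup (Fin 5) := ⟨s5, s5_mem⟩ with hs
  have hso : orderOf s = 5 := by
    have h1 : s ^ 5 = 1 := Subtype.ext (by change s5 ^ 5 = 1; decide +kernel)
    have h2 : s ≠ 1 := fun h => by
      have : s5 = 1 := congrArg Subtype.val h
      exact absurd this (by decide +kernel)
    have : Fact (Nat.Prime 5) := ⟨by norm_num⟩
    exact orderOf_eq_prime h1 h2
  refine spr_of_one hna (s := s) (M := Subgroup.normalizer ((zpowers s : Subgroup _) : Set _)) ?_ ?_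
  · intro h
    have hN : (zpowers s).Normal := Subgroup.normalizer_eq_top_iff.1 h
    rcases hN.eq_bot_or_eq_top with h1 | h1
    · rw [zpowers_eq_bot] at h1
      rw [h1, orderOf_one] at hso
      omega
    · have h2 : Nat.card (zpowers s) = Nat.card (⊤ : Subgroup (alternatingGroup (Fin 5))) := by rw [h1]
      rw [Nat.card_zpowers, hso, Subgroup.card_top, hcard] at h2
      omega
  · intro K hsK hK
    have hle : zpowers s ≤ K := by rwa [zpowers_le]
    rw [← Subgroup.normal_subgroupOf_iff_le_normalizer hle]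
    have hidx := SmallSimple.Embed.five_le_index hnc K hK
    have h1 : Nat.card K * K.index = 60 := by rw [Subgroup.card_mul_index, hcard]
    have h2 : Nat.card (zpowers s) * ((zpowers s).subgroupOf K).index = Nat.card K := by
      rw [← Nat.card_congr (Subgroup.subgroupOfEquivOfLe hle).toEquiv]
      exact Subgroup.card_mul_index _
    rw [Nat.card_zpowers, hso] at h2
    have h3 : ((zpowers s).subgroupOf K).index ≤ 2 := by
      by_contra h
      have h4 : 15 ≤ Nat.card K := by omega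
      have h5 : 15 * 5 ≤ Nat.card K * K.index := Nat.mul_le_mul h4 hidx
      omega
    have h4 : ((zpowers s).subgroupOf K).index ≠ 0 := Subgroup.index_ne_zero_of_finite
    rcases (by omega : ((zpowers s).subgroupOf K).index = 1 ∨ ((zpowers s).subgroupOf K).index = 2) with h5 | h5
    · rw [Subgroup.index_eq_one.1 h5]
      infer_instance
    · exact Subgroup.normal_of_index_eq_two h5

end five

/-- **the alternating row** -/
theorem row_alternating {L : Type*} [Group L] (hna : ∃ x y : L, x * y ≠ y * x) (h : Cfsg.IsAlternating L) : Spr L := by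
  obtain ⟨n, hn, ⟨e⟩⟩ := h
  have hna' : ∃ x y : alternatingGroup (Fin n), x * y ≠ y * x := by
    obtain ⟨x, y, hxy⟩ := hna
    exact ⟨e x, e y, fun h => hxy (e.injective (by rw [map_mul, map_mul, h]))⟩
  refine Spr.congr e.symm ?_
  rcases Nat.even_or_odd' n with ⟨m, rfl | rfl⟩
  · by_cases h3 : m = 3
    · subst h3
      exact spr_six hna'
    · exact spr_even (by omega) hna'
  · by_cases h2 : m = 2
    · subst h2
      exact spr_five hna'
    · exact spr_odd (by omega)

end Cfsg.Agent.H424.SprAlt
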