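import Cfsg.Agent.H424.Spr.Core
import Cfsg.Agent.S0713
import Cfsg.Agent.S2119

/-!
# 3/2-generation of the alternating groups: permutations (helper424)
-/

set_option autoImplicit false
set_option linter.unusedSectionVars false

namespace Cfsg.Agent.H424.SprAlt

open Equiv Equiv.Perm MulAction Subgroup
open scoped Pointwise

section gen

variable {α : Type*} [Fintype α] [DecidableEq α]

lemma support_eq {c : Perm α} {P : Finset α} (hc : c.IsCycleOn P) (hsup : c.support ⊆ P) (hP : 2 ≤ P.card) :
    c.support = P := by
  apply Finset.Subset.antisymm hsup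
  intro x hx
  rw [Perm.mem_support]
  have hnt : (P : Set α).Nontrivial := by
    rw [Finset.nontrivial_coe]
    exact Finset.one_lt_card_iff_nontrivial.1 (by omega)
  exact hc.apply_ne hnt hx

lemma isCycle_of {c : Perm α} {P : Finset α} (hc : c.IsCycleOn P) (hsup : c.support ⊆ P) (hP : 2 ≤ P.card) :
    c.IsCycle := by
  rw [Perm.isCycle_iff_exists_isCycleOn]
  have hnt : (P : Set α).Nontrivial := by
    rw [Finset.nontrivial_coe]
    exact Finset.one_lt_card_iff_nontrivial.1 (by omega)
  refine ⟨P, hnt, hc, fun x hx => ?_⟩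
  exact hsup (Perm.mem_support.2 hx)

lemma sign_cycleOn {c : Perm α} {P : Finset α} (hc : c.IsCycleOn P) (hsup : c.support ⊆ P) (hP : 1 ≤ P.card) :
    sign c = -(-1) ^ P.card := by
  rcases eq_or_lt_of_le hP with h | h
  · obtain ⟨a, rfl⟩ := Finset.card_eq_one.1 h.symm
    have h1 : c = 1 := by
      have h2 : c.support.card ≤ 1 := by
        have := Finset.card_le_card hsup
        simpa using this
      exact Perm.card_support_le_one.1 h2
    rw [h1]
    simp
  · rw [(isCycle_of hc hsup h).sign, support_eq hc hsup h]

lemma pow_card {c : Perm α} {P : Finset α} (hc : c.IsCycleOn P) (hsup : c.support ⊆ P) : c ^ P.card = 1 := by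
  ext x
  by_cases hx : x ∈ P
  · rw [hc.pow_card_apply hx]; rfl
  · have h1 : c x = x := by
      by_contra h2
      exact hx (hsup (Perm.mem_support.2 h2))
    rw [Perm.pow_apply_eq_self_of_apply_eq_self h1]
    rfl

/-- Jordan's theorem -/
lemma jordan (H : Subgroup (Perm α)) (hH : IsPreprimitive H α) {p : ℕ} (hp : p.Prime)
    (hp3 : p + 3 ≤ Fintype.card α) {c : Perm α} {P : Finset α} (hc : c.IsCycleOn P) (hsup : c.support ⊆ P)
    (hP : P.card = p) (hcH : c ∈ H) : alternatingGroup α ≤ H := by
  have h2 : 2 ≤ P.card := by rw [hP]; exact hp.two_le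
  have h := S0713.result H hH hp (by have := hp.two_le; omega) hp3 (isCycle_of hc hsup h2)
    (by rw [support_eq hc hsup h2]; exact hP) hcH
  exact h

/-- the product is a cycle on `P` -/
lemma cycleOn_mul {c d : Perm α} {P : Finset α} (hc : c.IsCycleOn P) (hd : ∀ x ∈ P, d x = x) (hcd : Commute c d) :
    (c * d).IsCycleOn P := by
  have hz : ∀ (i : ℤ), ∀ x ∈ P, ((c * d) ^ i) x = (c ^ i) x := by
    intro i x hx
    rw [hcd.mul_zpow, Perm.mul_apply, Perm.zpow_apply_eq_self_of_apply_eq_self (hd x hx)]
  refine ⟨?_, ?_⟩
  · refine hc.1.congr ?_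
    intro x hx
    have := hz 1 x hx
    simp only [zpow_one] at this
    exact this.symm
  · intro x hx y hy
    obtain ⟨i, hi⟩ := hc.2 hx hy
    exact ⟨i, by rw [hz i x hx]; exact hi⟩

lemma block_mem {H : Subgroup (Perm α)} {B : Set α} (hB : IsBlock H B) {h : Perm α} (hh : h ∈ H) {x : α}
    (hx : x ∈ B) (hhx : h x ∈ B) : h ∈ stabilizer (Perm α) B := by
  have h1 := isBlock_iff_smul_eq_of_mem.1 hB (g := ⟨h, hh⟩) hx hhx
  exact h1

lemma apply_of_stab {B : Set α} {h : Perm α} (hh : h ∈ stabilizer (Perm α) B) {x : α} (hx : x ∈ B) : h x ∈ B := by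
  rw [mem_stabilizer_iff] at hh
  rw [← hh]
  exact ⟨x, hx, rfl⟩

/-- two orbits: primitivity -/
lemma prim_two {H : Subgroup (Perm α)} (hH : IsPretransitive H α) {s c : Perm α} (hs : s ∈ H) (hcH : c ∈ H)
    {P Q : Finset α} {p : ℕ} (hp : p.Prime) (hP : P.card = p) (hcov : ∀ x, x ∈ P ∨ x ∈ Q) (hdis : Disjoint P Q)
    (hsP : s.IsCycleOn P) (hsQ : s.IsCycleOn Q) (hc : c.IsCycleOn P) (hsup : c.support ⊆ P)
    (hpn : ¬ p ∣ Nat.card α) : IsPreprimitive H α := by
  obtain ⟨u, hu⟩ : P.Nonempty := Finset.card_pos.1 (by rw [hP]; exact hp.pos)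
  apply IsPreprimitive.of_isTrivialBlock_base u
  intro B huB hB
  by_cases hq : ∃ q ∈ B, q ∈ Q
  · right
    obtain ⟨q, hqB, hqQ⟩ := hq
    have hcq : c q = q := by
      by_contra h1
      exact (Finset.disjoint_left.1 hdis) (hsup (Perm.mem_support.2 h1)) hqQ
    have hcst : c ∈ stabilizer (Perm α) B := block_mem hB hcH hqB (by rw [hcq]; exact hqB)
    have hPB : ∀ v ∈ P, v ∈ B := by
      intro v hv
      obtain ⟨i, hi⟩ := hc.2 hu hv
      rw [← hi]
      exact apply_of_stab (Subgroup.zpow_mem _ hcst i) huB
    have hsst : s ∈ stabilizer (Perm α) B := block_mem hB hs huB (hPB _ (hsP.1.mapsTo hu))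
    ext z
    simp only [Set.mem_univ, iff_true]
    rcases hcov z with hz | hz
    · exact hPB z hz
    · obtain ⟨i, hi⟩ := hsQ.2 hqQ hz
      rw [← hi]
      exact apply_of_stab (Subgroup.zpow_mem _ hsst i) hqB
  · push Not at hq
    left
    intro x hx y hy
    by_contra hxy
    have hxP : x ∈ P := (hcov x).resolve_right (hq x hx)
    have hyP : y ∈ P := (hcov y).resolve_right (hq y hy)
    obtain ⟨i, hi⟩ := hc.2 hxP hyP
    have h1 : c ^ i ∈ stabilizer (Perm α) B := block_mem hB (Subgroup.zpow_mem _ hcH i) hx (by rw [hi]; exact hy)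
    have hcp : c ^ p = 1 := by rw [← hP]; exact pow_card hc hsup
    have hip : ¬ (p : ℤ) ∣ i := by
      rintro ⟨k, rfl⟩
      apply hxy
      rw [← hi, zpow_mul, zpow_natCast, hcp, one_zpow]
      rfl
    have hcop : IsCoprime i (p : ℤ) := by
      have h2 : IsCoprime (p : ℤ) i := (Nat.prime_iff_prime_int.1 hp).coprime_iff_not_dvd.2 hip
      exact h2.symm
    obtain ⟨a, b, hab⟩ := hcop
    have hcst : c ∈ stabilizer (Perm α) B := by
      have h2 : c = (c ^ i) ^ a := by
        calc c = c ^ (a * i + b * p) := by rw [hab, zpow_one]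
          _ = (c ^ i) ^ a * (c ^ (p : ℤ)) ^ b := by rw [zpow_add, mul_comm a, mul_comm b, zpow_mul, zpow_mul]
          _ = _ := by rw [zpow_natCast, hcp, one_zpow, mul_one]
      rw [h2]
      exact Subgroup.zpow_mem _ h1 a
    have hBP : B = (P : Set α) := by
      apply Set.Subset.antisymm
      · intro z hz
        exact (hcov z).resolve_right (hq z hz)
      · intro v hv
        obtain ⟨i, hi⟩ := hc.2 hu hv
        rw [← hi]
        exact apply_of_stab (Subgroup.zpow_mem _ hcst i) huB
    have h3 := hB.ncard_dvd_card ⟨u, huB⟩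
    rw [hBP, Set.ncard_coe_finset, hP] at h3
    exact hpn h3

/-- three orbits of odd lengths, one of length one: primitivity -/
lemma prim_three {H : Subgroup (Perm α)} (hH : IsPretransitive H α) {s : Perm α} (hs : s ∈ H)
    {P Q : Finset α} {o : α} (hP : Odd P.card) (hQ : Odd Q.card) (hcov : ∀ x, x ∈ P ∨ x ∈ Q ∨ x = o)
    (hoP : o ∉ P) (hoQ : o ∉ Q) (hsP : s.IsCycleOn P) (hsQ : s.IsCycleOn Q) (hso : s o = o)
    (hodd : Odd (Nat.card α)) : IsPreprimitive H α := by
  apply IsPreprimitive.of_isTrivialBlock_base o
  intro B hoB hB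
  have hsst : s ∈ stabilizer (Perm α) B := block_mem hB hs hoB (by rw [hso]; exact hoB)
  have hdvd := hB.ncard_dvd_card ⟨o, hoB⟩
  have hoddB : Odd B.ncard := Odd.of_dvd_nat hodd hdvd
  have full : ∀ (R : Finset α), s.IsCycleOn R → ∀ x ∈ R, x ∈ B → ∀ y ∈ R, y ∈ B := by
    intro R hR x hx hxB y hy
    obtain ⟨i, hi⟩ := hR.2 hx hy
    rw [← hi]
    exact apply_of_stab (Subgroup.zpow_mem _ hsst i) hxB
  by_cases h1 : ∃ x ∈ P, x ∈ B
  · obtain ⟨x, hx, hxB⟩ := h1
    have hPB := full P hsP x hx hxB
    by_cases h2 : ∃ x ∈ Q, x ∈ B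
    · obtain ⟨y, hy, hyB⟩ := h2
      have hQB := full Q hsQ y hy hyB
      right
      ext z
      simp only [Set.mem_univ, iff_true]
      rcases hcov z with h | h | h
      · exact hPB z h
      · exact hQB z h
      · rw [h]; exact hoB
    · push Not at h2
      exfalso
      have hB' : B = ((insert o P : Finset α) : Set α) := by
        ext z
        rw [Finset.coe_insert, Set.mem_insert_iff, Finset.mem_coe]
        constructor
        · intro hz
          rcases hcov z with h | h | h
          · exact Or.inr h
          · exact absurd hz (h2 z h)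
          · exact Or.inl h
        · rintro (h | h)
          · rw [h]; exact hoB
          · exact hPB z h
      rw [hB', Set.ncard_coe_finset, Finset.card_insert_of_notMem hoP] at hoddB
      exact (Nat.not_even_iff_odd.2 hoddB) hP.add_one
  · push Not at h1
    by_cases h2 : ∃ x ∈ Q, x ∈ B
    · obtain ⟨y, hy, hyB⟩ := h2
      have hQB := full Q hsQ y hy hyB
      exfalso
      have hB' : B = ((insert o Q : Finset α) : Set α) := by
        ext z
        rw [Finset.coe_insert, Set.mem_insert_iff, Finset.mem_coe]
        constructor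
        · intro hz
          rcases hcov z with h | h | h
          · exact absurd hz (h1 z h)
          · exact Or.inr h
          · exact Or.inl h
        · rintro (h | h)
          · rw [h]; exact hoB
          · exact hQB z h
      rw [hB', Set.ncard_coe_finset, Finset.card_insert_of_notMem hoQ] at hoddB
      exact (Nat.not_even_iff_odd.2 hoddB) hQ.add_one
    · push Not at h2
      left
      intro x hx y hy
      have e : ∀ z ∈ B, z = o := by
        intro z hz
        rcases hcov z with h | h | h
        · exact absurd hz (h1 z h)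
        · exact absurd hz (h2 z h)
        · exact h
      rw [e x hx, e y hy]

/-- the orbit relation -/
def Rel (H : Subgroup (Perm α)) (x y : α) : Prop := ∃ h ∈ H, h x = y

lemma Rel.symm {H : Subgroup (Perm α)} {x y : α} (h : Rel H x y) : Rel H y x := by
  obtain ⟨h, hh, rfl⟩ := h
  exact ⟨h⁻¹, H.inv_mem hh, by simp⟩

lemma Rel.trans {H : Subgroup (Perm α)} {x y z : α} (h : Rel H x y) (h' : Rel H y z) : Rel H x z := by
  obtain ⟨h, hh, rfl⟩ := h
  obtain ⟨k, hk, rfl⟩ := h'
  exact ⟨k * h, H.mul_mem hk hh, rfl⟩

lemma rel_cycle {H : Subgroup (Perm α)} {s : Perm α} (hs : s ∈ H) {P : Finset α} (hP : s.IsCycleOn P) {x y : α}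
    (hx : x ∈ P) (hy : y ∈ P) : Rel H x y := by
  obtain ⟨i, hi⟩ := hP.2 hx hy
  exact ⟨s ^ i, H.zpow_mem hs i, hi⟩

open Classical in
/-- orbit length -/
noncomputable def len (H : Subgroup (Perm α)) (x : α) : ℕ := (Finset.univ.filter (Rel H x)).card

open Classical in
lemma len_eq {H : Subgroup (Perm α)} {x : α} {S : Finset α} (h : ∀ y, Rel H x y ↔ y ∈ S) : len H x = S.card := by
  unfold len
  congr 1
  ext y
  rw [Finset.mem_filter]
  simp [h]

open Classical in
lemma len_conj {H : Subgroup (Perm α)} {π : Perm α} (hπ : ∀ h ∈ H, π * h * π⁻¹ ∈ H) (hπ' : ∀ h ∈ H, π⁻¹ * h * π ∈ H)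
    (x : α) : len H (π x) = len H x := by
  unfold len
  have h1 : Finset.univ.filter (Rel H (π x)) = (Finset.univ.filter (Rel H x)).image π := by
    ext y
    rw [Finset.mem_filter, Finset.mem_image]
    constructor
    · rintro ⟨-, h, hh, rfl⟩
      refine ⟨(π⁻¹ * h * π) x, ?_, by simp⟩
      rw [Finset.mem_filter]
      exact ⟨Finset.mem_univ _, π⁻¹ * h * π, hπ' h hh, rfl⟩
    · rintro ⟨z, hz, rfl⟩
      obtain ⟨-, h, hh, rfl⟩ := Finset.mem_filter.1 hz
      exact ⟨Finset.mem_univ _, π * h * π⁻¹, hπ h hh, by simp⟩
  rw [h1, Finset.card_image_of_injective _ π.injective]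

lemma conj_inv {H : Subgroup (Perm α)} {π : Perm α} (hπ : ∀ h ∈ H, π * h * π⁻¹ ∈ H) : ∀ h ∈ H, π⁻¹ * h * π ∈ H := by
  have hpow : ∀ n : ℕ, ∀ h ∈ H, π ^ n * h * (π ^ n)⁻¹ ∈ H := by
    intro n
    induction n with
    | zero => intro h hh; simpa using hh
    | succ n ih =>
      intro h hh
      have h1 := hπ _ (ih h hh)
      have e : π * (π ^ n * h * (π ^ n)⁻¹) * π⁻¹ = π ^ (n + 1) * h * (π ^ (n + 1))⁻¹ := by
        rw [pow_succ']; group
      rwa [e] at h1
  intro h hh
  have h1 := hpow (orderOf π - 1) h hh
  have h2 : π ^ (orderOf π - 1) = π⁻¹ := by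
    have h3 : π ^ (orderOf π - 1) * π = 1 := by
      rw [← pow_succ, Nat.sub_add_cancel (orderOf_pos π), pow_orderOf_eq_one]
    exact eq_inv_of_mul_eq_one_left h3
  rw [h2, inv_inv] at h1
  exact h1

/-- **separation**: an intransitive group containing `s` (three cycles) and normalised by `π` forces `π` to fix one
of the three cycles -/
lemma separate {H : Subgroup (Perm α)} {π : Perm α} (hπ : ∀ h ∈ H, π * h * π⁻¹ ∈ H) {s : Perm α} (hs : s ∈ H)
    {P B C : Finset α} (hcov : ∀ x, x ∈ P ∨ x ∈ B ∨ x ∈ C) (hPB : Disjoint P B) (hPC : Disjoint P C)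
    (hBC : Disjoint B C) (hsP : s.IsCycleOn P) (hsB : s.IsCycleOn B) (hsC : s.IsCycleOn C)
    (nP : P.Nonempty) (nB : B.Nonempty) (nC : C.Nonempty)
    (h1 : P.card ≠ B.card) (h2 : P.card ≠ C.card) (h3 : P.card ≠ B.card + C.card) (h4 : P.card + B.card ≠ C.card)
    (h5 : P.card + C.card ≠ B.card) (hnt : ¬ IsPretransitive H α) :
    (∀ z ∈ P, π z ∈ P) ∨ (∀ z ∈ B, π z ∈ B) ∨ (∀ z ∈ C, π z ∈ C) := by
  have hlen := len_conj hπ (conj_inv hπ)
  obtain ⟨u, hu⟩ := nP
  obtain ⟨v, hv⟩ := nB
  obtain ⟨w, hw⟩ := nC
  have rP : ∀ {x}, x ∈ P → Rel H u x := fun hx => rel_cycle hs hsP hu hx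
  have rB : ∀ {x}, x ∈ B → Rel H v x := fun hx => rel_cycle hs hsB hv hx
  have rC : ∀ {x}, x ∈ C → Rel H w x := fun hx => rel_cycle hs hsC hw hx
  have key : ∀ (S : Finset α) (k : ℕ), (∀ z ∈ S, len H z = k) → (∀ z, z ∉ S → len H z ≠ k) → ∀ z ∈ S, π z ∈ S := by
    intro S k hS hS' z hz
    by_contra hc
    exact hS' _ hc (by rw [hlen, hS z hz])
  by_cases g1 : Rel H u v
  · by_cases g2 : Rel H u w
    · exfalso
      apply hnt
      have all : ∀ x, Rel H u x := by
        intro x
        rcases hcov x with h | h | h
        · exact rP h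
        · exact g1.trans (rB h)
        · exact g2.trans (rC h)
      constructor
      intro x y
      obtain ⟨h, hh, hxy⟩ := (all x).symm.trans (all y)
      exact ⟨⟨h, hh⟩, hxy⟩
    · right; right
      refine key C C.card ?_ ?_
      · intro z hz
        refine len_eq fun y => ⟨fun hy => ?_, fun hy => (rC hz).symm.trans (rC hy)⟩
        rcases hcov y with h | h | h
        · exact absurd ((rP h).trans (hy.symm.trans (rC hz).symm)) g2
        · exact absurd ((g1.trans (rB h)).trans (hy.symm.trans (rC hz).symm)) g2
        · exact h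
      · intro z hz
        have hzu : Rel H u z := by
          rcases hcov z with h | h | h
          · exact rP h
          · exact g1.trans (rB h)
          · exact absurd h hz
        have : len H z = (P ∪ B).card := by
          refine len_eq fun y => ⟨fun hy => ?_, fun hy => ?_⟩
          · rcases hcov y with h | h | h
            · exact Finset.mem_union_left _ h
            · exact Finset.mem_union_right _ h
            · exact absurd ((hzu.trans hy).trans (rC h).symm) g2
          · rcases Finset.mem_union.1 hy with h | h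
            · exact hzu.symm.trans (rP h)
            · exact hzu.symm.trans (g1.trans (rB h))
        rw [this, Finset.card_union_of_disjoint hPB]
        exact h4
  · by_cases g2 : Rel H u w
    · right; left
      refine key B B.card ?_ ?_
      · intro z hz
        refine len_eq fun y => ⟨fun hy => ?_, fun hy => (rB hz).symm.trans (rB hy)⟩
        rcases hcov y with h | h | h
        · exact absurd ((rP h).trans (hy.symm.trans (rB hz).symm)) g1
        · exact h
        · exact absurd ((g2.trans (rC h)).trans (hy.symm.trans (rB hz).symm)) g1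
      · intro z hz
        have hzu : Rel H u z := by
          rcases hcov z with h | h | h
          · exact rP h
          · exact absurd h hz
          · exact g2.trans (rC h)
        have : len H z = (P ∪ C).card := by
          refine len_eq fun y => ⟨fun hy => ?_, fun hy => ?_⟩
          · rcases hcov y with h | h | h
            · exact Finset.mem_union_left _ h
            · exact absurd ((hzu.trans hy).trans (rB h).symm) g1
            · exact Finset.mem_union_right _ h
          · rcases Finset.mem_union.1 hy with h | h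
            · exact hzu.symm.trans (rP h)
            · exact hzu.symm.trans (g2.trans (rC h))
        rw [this, Finset.card_union_of_disjoint hPC]
        exact h5
    · left
      refine key P P.card ?_ ?_
      · intro z hz
        refine len_eq fun y => ⟨fun hy => ?_, fun hy => (rP hz).symm.trans (rP hy)⟩
        rcases hcov y with h | h | h
        · exact h
        · exact absurd (((rP hz).trans hy).trans (rB h).symm) g1
        · exact absurd (((rP hz).trans hy).trans (rC h).symm) g2
      · intro z hz
        by_cases g3 : Rel H v w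
        · have hzv : Rel H v z := by
            rcases hcov z with h | h | h
            · exact absurd h hz
            · exact rB h
            · exact g3.trans (rC h)
          have : len H z = (B ∪ C).card := by
            refine len_eq fun y => ⟨fun hy => ?_, fun hy => ?_⟩
            · rcases hcov y with h | h | h
              · exact absurd ((rP h).trans ((hzv.trans hy).symm)) g1
              · exact Finset.mem_union_left _ h
              · exact Finset.mem_union_right _ h
            · rcases Finset.mem_union.1 hy with h | h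
              · exact hzv.symm.trans (rB h)
              · exact hzv.symm.trans (g3.trans (rC h))
          rw [this, Finset.card_union_of_disjoint hBC]
          exact h3.symm
        · rcases hcov z with h | h | h
          · exact absurd h hz
          · have : len H z = B.card := by
              refine len_eq fun y => ⟨fun hy => ?_, fun hy => (rB h).symm.trans (rB hy)⟩
              rcases hcov y with h' | h' | h'
              · exact absurd ((rP h').trans (hy.symm.trans (rB h).symm)) g1
              · exact h'
              · exact absurd (((rB h).trans hy).trans (rC h').symm) g3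
            rw [this]
            exact h1.symm
          · have : len H z = C.card := by
              refine len_eq fun y => ⟨fun hy => ?_, fun hy => (rC h).symm.trans (rC hy)⟩
              rcases hcov y with h' | h' | h'
              · exact absurd ((rP h').trans (hy.symm.trans (rC h).symm)) g2
              · exact absurd (((rB h').trans hy.symm).trans (rC h).symm) g3
              · exact h'
            rw [this]
            exact h2.symm

/-- choice of the three sets -/
lemma choose_sets {π : Perm α} (h1 : π ≠ 1) (h2 : ¬ π.IsSwap) {p c : ℕ} (hp : 2 ≤ p) (hc : 1 ≤ c)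
    (hn : p + c < Fintype.card α) : ∃ P B C : Finset α, (∀ x, x ∈ P ∨ x ∈ B ∨ x ∈ C) ∧ Disjoint P B ∧ Disjoint P C ∧
      Disjoint B C ∧ P.card = p ∧ B.card = Fintype.card α - p - c ∧ C.card = c ∧ ¬ (∀ z ∈ P, π z ∈ P) ∧
      ¬ (∀ z ∈ B, π z ∈ B) ∧ ¬ (∀ z ∈ C, π z ∈ C) := by
  obtain ⟨i, hi⟩ : ∃ i, π i ≠ i := by
    by_contra hcon
    push Not at hcon
    exact h1 (Perm.ext hcon)
  obtain ⟨k, hki, hkj, hk⟩ : ∃ k, k ≠ i ∧ k ≠ π i ∧ π k ≠ k := by
    by_contra hcon
    push Not at hcon
    apply h2
    refine ⟨i, π i, fun h => hi h.symm, ?_⟩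
    have hj : π (π i) = i := by
      by_contra h3
      have h4 : π (π (π i)) = π (π i) := hcon (π (π i)) h3 (fun h5 => hi (π.injective h5))
      exact hi (π.injective (π.injective h4))
    ext x
    by_cases hxi : x = i
    · rw [hxi, swap_apply_left]
    · by_cases hxj : x = π i
      · rw [hxj, swap_apply_right, hj]
      · rw [swap_apply_of_ne_of_ne hxi hxj]
        exact hcon x hxi hxj
  set j := π i with hj
  set l := π k with hl
  have hlj : l ≠ j := fun h => hki (π.injective h)
  -- `P`
  have hsub : ({j, l} : Finset α) \ {i} ⊆ (Finset.univ \ {i, k} : Finset α) := by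
    intro x hx
    simp only [Finset.mem_sdiff, Finset.mem_insert, Finset.mem_singleton, Finset.mem_univ, true_and] at hx ⊢
    rintro (h | h)
    · exact hx.2 h
    · rcases hx.1 with h' | h'
      · exact hkj (by rw [← h, h'])
      · exact hk (by rw [← h', h])
  have hcard1 : (({j, l} : Finset α) \ {i}).card ≤ p := by
    refine le_trans (Finset.card_le_card Finset.sdiff_subset) ?_
    exact le_trans (Finset.card_le_two) hp
  have hcard2 : (Finset.univ \ {i, k} : Finset α).card = Fintype.card α - 2 := by
    rw [Finset.card_sdiff_of_subset (Finset.subset_univ _), Finset.card_univ, Finset.card_pair (Ne.symm hki)]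
  obtain ⟨P, hP1, hP2, hP3⟩ := Finset.exists_subsuperset_card_eq hsub hcard1
    (by rw [hcard2]; omega)
  have hiP : i ∉ P := fun h => by
    have := hP2 h
    simp at this
  have hkP : k ∉ P := fun h => by
    have := hP2 h
    simp at this
  have hjP : j ∈ P := hP1 (by
    simp only [Finset.mem_sdiff, Finset.mem_insert, Finset.mem_singleton, true_or, true_and]
    exact hi)
  -- `C`
  have hsub2 : ({i} : Finset α) ⊆ (Finset.univ \ P) \ {k} := by
    intro x hx
    rw [Finset.mem_singleton] at hx
    subst hx
    simp only [Finset.mem_sdiff, Finset.mem_univ, true_and, Finset.mem_singleton]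
    exact ⟨hiP, fun h => hki h.symm⟩
  have hcard3 : ((Finset.univ \ P) \ {k} : Finset α).card = Fintype.card α - p - 1 := by
    rw [Finset.card_sdiff_of_subset, Finset.card_sdiff_of_subset (Finset.subset_univ _), Finset.card_univ, hP3,
      Finset.card_singleton]
    intro x hx
    rw [Finset.mem_singleton] at hx
    subst hx
    simp [hkP]
  obtain ⟨C, hC1, hC2, hC3⟩ := Finset.exists_subsuperset_card_eq hsub2 (n := c) (by simpa using hc)
    (by rw [hcard3]; omega)
  have hiC : i ∈ C := hC1 (Finset.mem_singleton_self _)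
  have hkC : k ∉ C := fun h => by
    have := hC2 h
    simp at this
  have hPC : Disjoint P C := by
    rw [Finset.disjoint_left]
    intro x hx hxC
    have := hC2 hxC
    simp only [Finset.mem_sdiff, Finset.mem_univ, true_and] at this
    exact this.1 hx
  refine ⟨P, Finset.univ \ (P ∪ C), C, ?_, ?_, hPC, ?_, hP3, ?_, hC3, ?_, ?_, ?_⟩
  · intro x
    by_cases h : x ∈ P
    · exact Or.inl h
    · by_cases h' : x ∈ C
      · exact Or.inr (Or.inr h')
      · right; left
        simp [h, h']
  · rw [Finset.disjoint_left]
    intro x hx hx'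
    simp [hx] at hx'
  · rw [Finset.disjoint_left]
    intro x hx hx'
    simp [hx'] at hx
  · rw [Finset.card_sdiff_of_subset (Finset.subset_univ _), Finset.card_univ, Finset.card_union_of_disjoint hPC,
      hP3, hC3]
    omega
  · intro h
    have hst : P.image π = P := by
      apply Finset.eq_of_subset_of_card_le
      · intro x hx
        obtain ⟨z, hz, rfl⟩ := Finset.mem_image.1 hx
        exact h z hz
      · rw [Finset.card_image_of_injective _ π.injective]
    rw [← hst] at hjP
    obtain ⟨z, hz, hzj⟩ := Finset.mem_image.1 hjP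
    have : z = i := π.injective hzj
    rw [this] at hz
    exact hiP hz
  · intro h
    have hkB : k ∈ Finset.univ \ (P ∪ C) := by simp [hkP, hkC]
    have h3 := h k hkB
    simp only [Finset.mem_sdiff, Finset.mem_univ, true_and, Finset.mem_union, not_or] at h3
    by_cases hli : l = i
    · exact h3.2 (by rw [← hl, hli]; exact hiC)
    · apply h3.1
      apply hP1
      rw [← hl]
      simp [hli]
  · intro h
    have h3 := h i hiC
    exact (Finset.disjoint_left.1 hPC) hjP h3

end gen

end Cfsg.Agent.H424.SprAlt
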