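import Cfsg.Agent.H424.Spr.Alt

/-!
# 3/2-generation of the alternating groups (helper424)
-/

set_option autoImplicit false
set_option linter.unusedSectionVars false

namespace Cfsg.Agent.H424.SprAlt

open Equiv Equiv.Perm MulAction Subgroup
open scoped Pointwise
open Cfsg.Agent.H424.Spr

section gen

variable {α : Type*} [Fintype α] [DecidableEq α]

lemma fix_of_support {c : Perm α} {P Q : Finset α} (hsup : c.support ⊆ P) (hd : Disjoint P Q) :
    ∀ x ∈ Q, c x = x := by
  intro x hx
  by_contra h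
  exact (Finset.disjoint_left.1 hd) (hsup (Perm.mem_support.2 h)) hx

lemma comm_of_disj {c d : Perm α} {P Q : Finset α} (hc : c.support ⊆ P) (hd : d.support ⊆ Q) (h : Disjoint P Q) :
    Commute c d :=
  (Perm.disjoint_iff_disjoint_support.2 (Finset.disjoint_of_subset_left hc (Finset.disjoint_of_subset_right hd h))).commute

/-- a permutation with two given cycles -/
lemma exists_double {P Q : Finset α} (hd : Disjoint P Q) (nP : 1 ≤ P.card) (nQ : 1 ≤ Q.card)
    (hcop : P.card.Coprime Q.card) : ∃ s c : Perm α, s.IsCycleOn P ∧ s.IsCycleOn Q ∧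
      c.IsCycleOn P ∧ c.support ⊆ P ∧ sign s = (-(-1) ^ P.card) * (-(-1) ^ Q.card) ∧ ∃ N : ℕ, c = s ^ N := by
  obtain ⟨c, hc, hcs⟩ := P.exists_cycleOn
  obtain ⟨d, hd', hds⟩ := Q.exists_cycleOn
  have hcd := comm_of_disj hcs hds hd
  refine ⟨c * d, c, cycleOn_mul hc (fix_of_support hds hd.symm) hcd, ?_, hc, hcs, ?_, ?_⟩
  · rw [hcd.eq]
    exact cycleOn_mul hd' (fix_of_support hcs hd) hcd.symm
  · rw [map_mul, sign_cycleOn hc hcs nP, sign_cycleOn hd' hds nQ]
  · obtain ⟨N, h1, h2⟩ := Nat.chineseRemainder hcop 1 0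
    refine ⟨N, ?_⟩
    rw [hcd.mul_pow]
    have e1 : c ^ N = c := by
      have h3 : (1 : ℕ) ≡ N [MOD P.card] := h1.symm
      have h4 := pow_eq_pow_of_modEq h1 (pow_card hc hcs)
      rw [h4, pow_one]
    have e2 : d ^ N = 1 := by
      obtain ⟨k, hk⟩ := (Nat.modEq_zero_iff_dvd.1 h2)
      rw [hk, pow_mul, pow_card hd' hds, one_pow]
    rw [e1, e2, mul_one]

/-- a permutation with three given cycles -/
lemma exists_triple {P B C : Finset α} (hPB : Disjoint P B) (hPC : Disjoint P C) (hBC : Disjoint B C)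
    (nP : 1 ≤ P.card) (nB : 1 ≤ B.card) (nC : 1 ≤ C.card)
    (hcop : P.card.Coprime (B.card * C.card)) : ∃ s c : Perm α, s.IsCycleOn P ∧ s.IsCycleOn B ∧ s.IsCycleOn C ∧
      c.IsCycleOn P ∧ c.support ⊆ P ∧ sign s = (-(-1) ^ P.card) * ((-(-1) ^ B.card) * (-(-1) ^ C.card)) ∧
      ∃ N : ℕ, c = s ^ N := by
  obtain ⟨c, hc, hcs⟩ := P.exists_cycleOn
  obtain ⟨d, hd, hds⟩ := B.exists_cycleOn
  obtain ⟨e, he, hes⟩ := C.exists_cycleOn
  have hde := comm_of_disj hds hes hBC
  have hcd := comm_of_disj hcs hds hPB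
  have hce := comm_of_disj hcs hes hPC
  have hcde : Commute c (d * e) := hcd.mul_right hce
  refine ⟨c * (d * e), c, cycleOn_mul hc ?_ hcde, ?_, ?_, hc, hcs, ?_, ?_⟩
  · intro x hx
    rw [Perm.mul_apply, fix_of_support hes hPC.symm x hx, fix_of_support hds hPB.symm x hx]
  · have e1 : c * (d * e) = d * (c * e) := by rw [← mul_assoc, hcd.eq, mul_assoc]
    rw [e1]
    refine cycleOn_mul hd ?_ (hcd.symm.mul_right hde)
    intro x hx
    rw [Perm.mul_apply, fix_of_support hes hBC.symm x hx, fix_of_support hcs hPB x hx]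
  · have e1 : c * (d * e) = e * (c * d) := by rw [← mul_assoc, (hce.mul_left hde).eq]
    rw [e1]
    refine cycleOn_mul he ?_ (hce.symm.mul_right hde.symm)
    intro x hx
    rw [Perm.mul_apply, fix_of_support hds hBC x hx, fix_of_support hcs hPC x hx]
  · rw [map_mul, map_mul, sign_cycleOn hc hcs nP, sign_cycleOn hd hds nB, sign_cycleOn he hes nC]
  · obtain ⟨N, h1, h2⟩ := Nat.chineseRemainder hcop 1 0
    refine ⟨N, ?_⟩
    rw [hcde.mul_pow, hde.mul_pow]
    have e1 : c ^ N = c := by
      have h4 := pow_eq_pow_of_modEq h1 (pow_card hc hcs)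
      rw [h4, pow_one]
    obtain ⟨k, hk⟩ := (Nat.modEq_zero_iff_dvd.1 h2)
    have e2 : d ^ N = 1 := by
      rw [hk, mul_assoc, pow_mul, pow_card hd hds, one_pow]
    have e3 : e ^ N = 1 := by
      rw [hk, mul_comm B.card, mul_assoc, pow_mul, pow_card he hes, one_pow]
    rw [e1, e2, e3, mul_one, mul_one]

/-- transpositions -/
lemma swap_case {π : Perm α} (hsw : π.IsSwap) (hodd : Odd (Fintype.card α)) (h5 : 5 ≤ Fintype.card α) :
    ∃ x ∈ alternatingGroup α, ∀ H : Subgroup (Perm α), H ≤ alternatingGroup α → x ∈ H →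
      (∀ h ∈ H, π * h * π⁻¹ ∈ H) → alternatingGroup α ≤ H := by
  obtain ⟨i, j, hij, rfl⟩ := hsw
  obtain ⟨c, hc, -⟩ := (Finset.univ : Finset α).exists_cycleOn
  have hnt : ((Finset.univ : Finset α) : Set α).Nontrivial := by
    rw [Finset.nontrivial_coe]
    exact Finset.one_lt_card_iff_nontrivial.1 (by rw [Finset.card_univ]; omega)
  have hj' : c i ≠ i := hc.apply_ne hnt (Finset.mem_coe.2 (Finset.mem_univ i))
  set τ := swap (c i) j with hτ
  have hτi : τ i = i := swap_apply_of_ne_of_ne (Ne.symm hj') hij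
  set x := τ * c * τ⁻¹ with hx
  have hxi : x i = j := by
    have : τ⁻¹ i = i := by rw [Perm.inv_eq_iff_eq]; exact hτi.symm
    rw [hx, Perm.mul_apply, Perm.mul_apply, this, hτ, swap_apply_left]
  have hxc : x.IsCycleOn (Finset.univ : Finset α) := by
    have h1 := hc.conj (g := τ)
    have h2 : (τ : Perm α) '' ((Finset.univ : Finset α) : Set α) = ((Finset.univ : Finset α) : Set α) := by
      rw [Finset.coe_univ, Set.image_univ, τ.range_eq_univ]
    rw [h2] at h1
    exact h1
  have hsx : sign x = 1 := by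
    rw [sign_cycleOn hxc (Finset.subset_univ _) (by rw [Finset.card_univ]; omega), Finset.card_univ, hodd.neg_one_pow]
    simp
  refine ⟨x, Perm.mem_alternatingGroup.2 hsx, fun H hHA hxH hinv => ?_⟩
  set π := swap i j with hπ
  set G : Subgroup (Perm α) := H ⊔ zpowers π with hG
  have hHG : H ≤ G := le_sup_left
  have hπG : π ∈ G := (le_sup_right : zpowers π ≤ G) (mem_zpowers π)
  have htr : IsPretransitive G α := by
    constructor
    intro a b
    obtain ⟨k, hk⟩ := hxc.2 (Finset.mem_coe.2 (Finset.mem_univ a)) (Finset.mem_coe.2 (Finset.mem_univ b))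
    exact ⟨⟨x ^ k, hHG (H.zpow_mem hxH k)⟩, hk⟩
  have hprim : IsPreprimitive G α := by
    apply IsPreprimitive.of_isTrivialBlock_base i
    intro B hiB hB
    by_cases hsub : B.Subsingleton
    · exact Or.inl hsub
    · right
      have hjB : j ∈ B := by
        by_contra hjB
        obtain ⟨k, hkB, hki⟩ : ∃ k ∈ B, k ≠ i := by
          by_contra hcon
          push Not at hcon
          exact hsub (fun a ha b hb => by rw [hcon a ha, hcon b hb])
        have hkj : k ≠ j := fun h => hjB (h ▸ hkB)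
        have h1 : π ∈ stabilizer (Perm α) B := block_mem hB hπG hkB (by
          rw [hπ, swap_apply_of_ne_of_ne hki hkj]; exact hkB)
        have h2 := apply_of_stab h1 hiB
        rw [hπ, swap_apply_left] at h2
        exact hjB h2
      have h1 : x ∈ stabilizer (Perm α) B := block_mem hB (hHG hxH) hiB (by rw [hxi]; exact hjB)
      ext z
      simp only [Set.mem_univ, iff_true]
      obtain ⟨k, hk⟩ := hxc.2 (Finset.mem_coe.2 (Finset.mem_univ i)) (Finset.mem_coe.2 (Finset.mem_univ z))
      rw [← hk]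
      exact apply_of_stab (Subgroup.zpow_mem _ h1 k) hiB
  have hGtop : G = ⊤ := subgroup_eq_top_of_isPreprimitive_of_isSwap_mem hprim π ⟨i, j, hij, rfl⟩ hπG
  have hnorm : Subgroup.normalizer (H : Set (Perm α)) = ⊤ := by
    rw [eq_top_iff, ← hGtop, hG]
    apply sup_le Subgroup.le_normalizer
    rw [zpowers_le, Subgroup.mem_normalizer_iff]
    intro h
    constructor
    · exact hinv h
    · intro hh
      have h1 := conj_inv hinv _ hh
      have e : π⁻¹ * (π * h * π⁻¹) * π = h := by group
      rwa [e] at h1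
  have hN : H.Normal := Subgroup.normalizer_eq_top_iff.1 hnorm
  have hsimp : IsSimpleGroup (alternatingGroup α) := alternatingGroup.isSimpleGroup (by
    rw [Nat.card_eq_fintype_card]; exact h5)
  have hN' : (H.subgroupOf (alternatingGroup α)).Normal := hN.subgroupOf _
  rcases hN'.eq_bot_or_eq_top with h1 | h1
  · exfalso
    have h2 : (⟨x, Perm.mem_alternatingGroup.2 hsx⟩ : alternatingGroup α) ∈ H.subgroupOf (alternatingGroup α) :=
      Subgroup.mem_subgroupOf.2 hxH
    rw [h1, Subgroup.mem_bot] at h2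
    have h3 : x = 1 := congrArg Subtype.val h2
    rw [h3] at hxi
    exact hij hxi
  · rwa [Subgroup.subgroupOf_eq_top] at h1

/-- the other permutations, odd degree -/
lemma odd_case {π : Perm α} (h1 : π ≠ 1) (h2 : ¬ π.IsSwap) (hodd : Odd (Fintype.card α)) {p b c : ℕ}
    (hp : p.Prime) (hp2 : Odd p) (hb : 1 ≤ b) (hc : 1 ≤ c) (hn : p + b + c = Fintype.card α)
    (hcop : p.Coprime (b * c)) (hp3 : p + 3 ≤ Fintype.card α)
    (s1 : p ≠ b) (s2 : p ≠ c) (s3 : p ≠ b + c) (s4 : p + b ≠ c) (s5 : p + c ≠ b)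
    (hprim : (c = 1 ∧ Odd b) ∨ (Fintype.card α).Prime) :
    ∃ x ∈ alternatingGroup α, ∀ H : Subgroup (Perm α), H ≤ alternatingGroup α → x ∈ H →
      (∀ h ∈ H, π * h * π⁻¹ ∈ H) → alternatingGroup α ≤ H := by
  obtain ⟨P, B, C, hcov, hPB, hPC, hBC, cP, cB, cC, n1, n2, n3⟩ := choose_sets h1 h2 (p := p) (c := c) hp.two_le hc
    (by omega)
  have cB' : B.card = b := by rw [cB]; omega
  obtain ⟨s, d, sP, sB, sC, dP, dsup, hsign, N, hN⟩ := exists_triple hPB hPC hBC (by rw [cP]; exact hp.one_le)
    (by rw [cB']; exact hb) (by rw [cC]; exact hc) (by rw [cP, cB', cC]; exact hcop)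
  have hbc : Even (b + c) := by
    have h3 : Odd (p + (b + c)) := by rw [← add_assoc, hn]; exact hodd
    by_contra h4
    rw [Nat.not_even_iff_odd] at h4
    exact (Nat.not_even_iff_odd.2 h3) (hp2.add_odd h4)
  have hs1 : sign s = 1 := by
    rw [hsign, cP, cB', cC, hp2.neg_one_pow, neg_neg, one_mul, neg_mul_neg, ← pow_add, hbc.neg_one_pow]
  refine ⟨s, Perm.mem_alternatingGroup.2 hs1, fun H hHA hsH hinv => ?_⟩
  have hdH : d ∈ H := by rw [hN]; exact H.pow_mem hsH N
  have htr : IsPretransitive H α := by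
    by_contra hnt
    rcases separate hinv hsH hcov hPB hPC hBC sP sB sC (Finset.card_pos.1 (by rw [cP]; exact hp.pos))
      (Finset.card_pos.1 (by rw [cB']; exact hb)) (Finset.card_pos.1 (by rw [cC]; exact hc))
      (by rw [cP, cB']; exact s1) (by rw [cP, cC]; exact s2) (by rw [cP, cB', cC]; exact s3)
      (by rw [cP, cB', cC]; exact s4) (by rw [cP, cC, cB']; exact s5) hnt with h | h | h
    · exact n1 h
    · exact n2 h
    · exact n3 h
  have hprim' : IsPreprimitive H α := by
    rcases hprim with ⟨hc1, hbo⟩ | hpr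
    · obtain ⟨o, ho⟩ := Finset.card_eq_one.1 (cC.trans hc1)
      refine prim_three htr hsH (P := P) (Q := B) (o := o) (by rw [cP]; exact hp2) (by rw [cB']; exact hbo) ?_ ?_ ?_ sP sB
        ?_ (by rw [Nat.card_eq_fintype_card]; exact hodd)
      · intro x
        rcases hcov x with h | h | h
        · exact Or.inl h
        · exact Or.inr (Or.inl h)
        · right; right
          rw [ho] at h
          exact Finset.mem_singleton.1 h
      · intro h
        exact (Finset.disjoint_left.1 hPC) h (by rw [ho]; exact Finset.mem_singleton_self _)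
      · intro h
        exact (Finset.disjoint_left.1 hBC) h (by rw [ho]; exact Finset.mem_singleton_self _)
      · have h3 : s o ∈ C := sC.1.mapsTo (by rw [ho]; simp)
        rw [ho] at h3
        exact Finset.mem_singleton.1 h3
    · exact IsPreprimitive.of_prime_card (by rw [Nat.card_eq_fintype_card]; exact hpr)
  exact jordan H hprim' hp hp3 dP dsup cP hdH

end gen

/-- a suitable prime -/
lemma exists_prime {m : ℕ} (hm : 4 ≤ m) : ∃ p : ℕ, p.Prime ∧ Odd p ∧ ¬ p ∣ 2 * m ∧ p + 3 ≤ 2 * m ∧ p < m := by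
  rcases Nat.even_or_odd m with he | ho
  · have h1 : (m - 1).minFac.Prime := Nat.minFac_prime (by omega)
    have h2 := Nat.minFac_dvd (m - 1)
    have h3 : (m - 1).minFac ≤ m - 1 := Nat.minFac_le (by omega)
    have hodd : Odd (m - 1) := by
      obtain ⟨k, hk⟩ := he
      exact ⟨k - 1, by omega⟩
    have hpo : Odd (m - 1).minFac := Odd.of_dvd_nat hodd h2
    refine ⟨_, h1, hpo, ?_, by omega, by omega⟩
    intro h4
    have h5 : (m - 1).minFac ∣ m := by
      rcases (Nat.Prime.dvd_mul h1).1 h4 with h | h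
      · have := (Nat.prime_dvd_prime_iff_eq h1 Nat.prime_two).1 h
        rw [this] at hpo
        exact absurd hpo (by decide)
      · exact h
    have h6 : (m - 1).minFac ∣ 1 := by
      have h7 := Nat.dvd_sub h5 h2
      have : m - (m - 1) = 1 := by omega
      rwa [this] at h7
    exact h1.one_lt.ne' (Nat.dvd_one.1 h6)
  · have hm5 : 5 ≤ m := by
      rcases eq_or_lt_of_le hm with h | h
      · rw [← h] at ho; exact absurd ho (by decide)
      · exact h
    have h1 : (m - 2).minFac.Prime := Nat.minFac_prime (by omega)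
    have h2 := Nat.minFac_dvd (m - 2)
    have h3 : (m - 2).minFac ≤ m - 2 := Nat.minFac_le (by omega)
    have hodd : Odd (m - 2) := by
      obtain ⟨k, hk⟩ := ho
      exact ⟨k - 1, by omega⟩
    have hpo : Odd (m - 2).minFac := Odd.of_dvd_nat hodd h2
    refine ⟨_, h1, hpo, ?_, by omega, by omega⟩
    intro h4
    have hne2 : (m - 2).minFac ≠ 2 := by
      intro h
      rw [h] at hpo
      exact absurd hpo (by decide)
    have h5 : (m - 2).minFac ∣ m := by
      rcases (Nat.Prime.dvd_mul h1).1 h4 with h | h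
      · exact absurd ((Nat.prime_dvd_prime_iff_eq h1 Nat.prime_two).1 h) hne2
      · exact h
    have h6 : (m - 2).minFac ∣ 2 := by
      have h7 := Nat.dvd_sub h5 h2
      have : m - (m - 2) = 2 := by omega
      rwa [this] at h7
    exact hne2 ((Nat.prime_dvd_prime_iff_eq h1 Nat.prime_two).1 h6)

/-- reduction to permutations -/
lemma spr_of_perm {n : ℕ} (hn : 5 ≤ n) (h6 : n ≠ 6)
    (h : ∀ π : Perm (Fin n), π ≠ 1 → ∃ x ∈ alternatingGroup (Fin n), ∀ H : Subgroup (Perm (Fin n)),
      H ≤ alternatingGroup (Fin n) → x ∈ H → (∀ h ∈ H, π * h * π⁻¹ ∈ H) → alternatingGroup (Fin n) ≤ H) :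
    Spr (alternatingGroup (Fin n)) := by
  intro a ha
  have hbij := S2119.result n (by omega) h6
  obtain ⟨π, hπ⟩ := hbij.2 a
  have hπ1 : π ≠ 1 := by
    rintro rfl
    apply ha
    rw [← hπ, map_one]
  obtain ⟨x, hx, hH⟩ := h π hπ1
  refine ⟨⟨x, hx⟩, fun K hxK hinv => ?_⟩
  have h1 := hH (K.map (alternatingGroup (Fin n)).subtype) (by
      rintro _ ⟨k, hk, rfl⟩
      exact k.2) ⟨_, hxK, rfl⟩ (by
      rintro _ ⟨k, hk, rfl⟩
      refine ⟨a k, hinv k hk, ?_⟩
      rw [← hπ]
      exact MulAut.conjNormal_apply π k)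
  rw [eq_top_iff]
  intro y _
  obtain ⟨k, hk, hky⟩ := h1 y.2
  have : k = y := Subtype.ext hky
  rw [← this]
  exact hk

/-- odd degree at least seven -/
theorem spr_odd {m : ℕ} (hm : 3 ≤ m) : Spr (alternatingGroup (Fin (2 * m + 1))) := by
  refine spr_of_perm (by omega) (by omega) fun π hπ => ?_
  have hodd : Odd (Fintype.card (Fin (2 * m + 1))) := by rw [Fintype.card_fin]; exact ⟨m, rfl⟩
  by_cases hsw : π.IsSwap
  · exact swap_case hsw hodd (by rw [Fintype.card_fin]; omega)
  · have key : ∃ x ∈ alternatingGroup (Fin (2 * m + 1)), ∀ H : Subgroup (Perm (Fin (2 * m + 1))),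
        H ≤ alternatingGroup (Fin (2 * m + 1)) → x ∈ H → (∀ h ∈ H, π * h * π⁻¹ ∈ H) →
        alternatingGroup (Fin (2 * m + 1)) ≤ H := by
      rcases eq_or_lt_of_le hm with h3 | h3
      · subst h3
        exact odd_case hπ hsw hodd (p := 3) (b := 2) (c := 2) Nat.prime_three (by decide) (by norm_num) (by norm_num)
          (by rw [Fintype.card_fin]) (by norm_num) (by rw [Fintype.card_fin]; norm_num) (by norm_num) (by norm_num)
          (by norm_num) (by norm_num) (by norm_num) (Or.inr (by rw [Fintype.card_fin]; norm_num))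
      · obtain ⟨p, hp, hpo, hpm, hp3, hpm'⟩ := exists_prime (m := m) h3
        have hbo : Odd (2 * m - p) := by
          obtain ⟨k, hk⟩ := hpo
          exact ⟨m - k - 1, by omega⟩
        exact odd_case hπ hsw hodd (p := p) (b := 2 * m - p) (c := 1) hp hpo (by omega) le_rfl
          (by rw [Fintype.card_fin]; omega) (by
            rw [mul_one, Nat.Prime.coprime_iff_not_dvd hp]
            intro h
            apply hpm
            have h4 : p ∣ (2 * m - p) + p := h.add (dvd_refl p)
            have h5 : 2 * m - p + p = 2 * m := by omega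
            rwa [h5] at h4)
          (by rw [Fintype.card_fin]; omega) (by omega) (by have := hp.two_le; omega)
          (by omega) (by have := hp.two_le; omega)
          (by
            obtain ⟨k, hk⟩ := hpo
            obtain ⟨l, hl⟩ := hbo
            omega) (Or.inl ⟨rfl, hbo⟩)
    exact key

end Cfsg.Agent.H424.SprAlt
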