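import Cfsg.Agent.H424.Spr.Core

/-!
# 3/2-generation: counting (helper424, for helper862's S3938)

`spr_of_bad`: it suffices that for every `a ≠ 1` some `y` has the property that no coatom through
`y s y⁻¹` is carried by `a` to a coatom through `y s y⁻¹`.
`card_swap_le`: `|{y : a • (y • M) = y • M'}| ≤ |M| * |C_L(a)|`.
`spr_of_count`, `spr_of_fix`: the two counting criteria.
-/

set_option autoImplicit false
set_option linter.unusedSectionVars false

namespace Cfsg.Agent.H424.Spr

open scoped Pointwise Classical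

variable {L : Type*} [Group L] [IsSimpleGroup L] [Finite L]

/-- transport of the coatoms through `y s y⁻¹` -/
lemma tr_mem {s : L} {𝓜 : Finset (Subgroup L)} (h𝓜 : ∀ N : Subgroup L, IsCoatom N → s ∈ N → N ∈ 𝓜) (y : L)
    (N : Subgroup L) (hN : IsCoatom N) (hsN : c y s ∈ N) : ∃ M ∈ 𝓜, N = c y • M := by
  refine ⟨c y⁻¹ • N, h𝓜 _ (coatom_smul _ hN) ?_, ?_⟩
  · have := mem_smul (c y⁻¹) hsN
    have e : (c y⁻¹ : MulAut L) (c y s) = s := by
      rw [← MulAut.mul_apply, ← map_mul, inv_mul_cancel, map_one, MulAut.one_apply]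
    rwa [e] at this
  · rw [smul_smul, ← map_mul, mul_inv_cancel, map_one, one_smul]

/-- **The bad elements.** -/
theorem spr_of_bad {s : L} {𝓜 : Finset (Subgroup L)} (h𝓜 : ∀ N : Subgroup L, IsCoatom N → s ∈ N → N ∈ 𝓜)
    (h : ∀ a : MulAut L, a ≠ 1 → ∃ y : L, ∀ M ∈ 𝓜, ∀ M' ∈ 𝓜, a • (c y • M) ≠ c y • M') : Spr L := by
  intro a ha
  obtain ⟨y, hy⟩ := h a ha
  refine ⟨c y s, ?_⟩
  by_contra hcon
  obtain ⟨N, hN, hN'⟩ := bad hcon
  obtain ⟨M, hM, g0⟩ := tr_mem h𝓜 y N hN (by have := hN' 0; rwa [pow_zero, one_smul] at this)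
  obtain ⟨M', hM', g1⟩ := tr_mem h𝓜 y (a • N) (coatom_smul _ hN) (by have := hN' 1; rwa [pow_one] at this)
  exact hy M hM M' hM' (by rw [← g0, g1])

/-- number of elements carrying one subgroup to another -/
lemma card_conj_le (A B : Subgroup L) (hA : Subgroup.normalizer (A : Set L) = A) :
    Nat.card {z : L // c z • A = B} ≤ Nat.card A := by
  by_cases h : ∃ z : L, c z • A = B
  · obtain ⟨z₀, hz₀⟩ := h
    have hinj : Function.Injective (fun z : {z : L // c z • A = B} => (⟨z₀⁻¹ * z.1, by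
        have h1 : z₀⁻¹ * z.1 ∈ Subgroup.normalizer (A : Set L) := by
          apply mem_normalizer_of_smul
          rw [map_mul, mul_smul, z.2, ← hz₀, smul_smul, ← map_mul, inv_mul_cancel, map_one, one_smul]
        rwa [hA] at h1⟩ : A)) := by
      intro z w hzw
      have h1 := congrArg (Subtype.val) hzw
      exact Subtype.ext (mul_left_cancel h1)
    exact Nat.card_le_card_of_injective _ hinj
  · have : IsEmpty {z : L // c z • A = B} := ⟨fun z => h ⟨z.1, z.2⟩⟩
    rw [Nat.card_of_isEmpty]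
    exact Nat.zero_le _

/-- `|{y : a • (y • M) = y • M'}| ≤ |M| * |C_L(a)|` -/
lemma card_swap_le (a : MulAut L) (M M' : Subgroup L) (hM : Subgroup.normalizer (M : Set L) = M) :
    Nat.card {y : L // a • (c y • M) = c y • M'} ≤ Nat.card M * Nat.card {y : L // a y = y} := by
  have hA : Subgroup.normalizer ((a • M : Subgroup L) : Set L) = a • M := by
    apply le_antisymm
    · intro z hz
      have h1 : c z • (a • M) = a • M := c_smul_of_normalizer hz
      have h2 : c (a⁻¹ z) • M = M := by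
        have h3 : a • (c (a⁻¹ z) • M) = a • M := by
          rw [a_smul_c]
          have : a (a⁻¹ z) = z := by rw [← MulAut.mul_apply, mul_inv_cancel, MulAut.one_apply]
          rw [this, h1]
        exact MulAction.injective a h3
      have h4 := mem_normalizer_of_smul h2
      rw [hM] at h4
      have h5 := mem_smul a h4
      have : a (a⁻¹ z) = z := by rw [← MulAut.mul_apply, mul_inv_cancel, MulAut.one_apply]
      rwa [this] at h5
    · exact Subgroup.le_normalizer
  -- the map `y ↦ y⁻¹ * a y` and its fibres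
  have hcard : Nat.card (a • M : Subgroup L) = Nat.card M := by
    have : ((a • M : Subgroup L)) = M.map (MulEquiv.toMonoidHom a) := rfl
    rw [this]
    exact Nat.card_congr (MulEquiv.subgroupMap a M).symm.toEquiv
  have hmap : ∀ y : {y : L // a • (c y • M) = c y • M'}, c (y.1⁻¹ * a y.1) • (a • M) = M' := by
    rintro ⟨y, hy⟩
    rw [a_smul_c] at hy
    change c (y⁻¹ * a y) • (a • M) = M'
    rw [map_mul, mul_smul, hy, smul_smul, ← map_mul, inv_mul_cancel, map_one, one_smul]
  let F : {y : L // a • (c y • M) = c y • M'} → {z : L // c z • (a • M) = M'} := fun y => ⟨y.1⁻¹ * a y.1, hmap y⟩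
  have hex : ∀ z : {z : L // c z • (a • M) = M'}, ∃ w : L, (∃ y : {y : L // a • (c y • M) = c y • M'}, F y = z ∧ y.1 = w) ∨
      ∀ y : {y : L // a • (c y • M) = c y • M'}, F y ≠ z := by
    intro z
    by_cases h : ∃ y, F y = z
    · obtain ⟨y, hy⟩ := h
      exact ⟨y.1, Or.inl ⟨y, hy, rfl⟩⟩
    · push Not at h
      exact ⟨1, Or.inr h⟩
  choose w hw using hex
  have hfix : ∀ y : {y : L // a • (c y • M) = c y • M'}, a (y.1 * (w (F y))⁻¹) = y.1 * (w (F y))⁻¹ := by
    intro y
    rcases hw (F y) with ⟨y', h1, h2⟩ | h1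
    · have h3 : y'.1⁻¹ * a y'.1 = y.1⁻¹ * a y.1 := congrArg Subtype.val h1
      rw [← h2, map_mul, map_inv]
      have h4 : a y'.1 = y'.1 * (y.1⁻¹ * a y.1) := by rw [← h3]; group
      rw [h4]
      group
    · exact absurd rfl (h1 y)
  have hinj : Function.Injective (fun y : {y : L // a • (c y • M) = c y • M'} =>
      ((F y, ⟨y.1 * (w (F y))⁻¹, hfix y⟩) : {z : L // c z • (a • M) = M'} × {y : L // a y = y})) := by
    intro y y' h
    have h1 : F y = F y' := congrArg Prod.fst h
    have h2 : y.1 * (w (F y))⁻¹ = y'.1 * (w (F y'))⁻¹ := congrArg (fun q => (Prod.snd q).1) h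
    rw [h1] at h2
    exact Subtype.ext (mul_right_cancel h2)
  calc Nat.card {y : L // a • (c y • M) = c y • M'}
      ≤ Nat.card ({z : L // c z • (a • M) = M'} × {y : L // a y = y}) := Nat.card_le_card_of_injective _ hinj
    _ = Nat.card {z : L // c z • (a • M) = M'} * Nat.card {y : L // a y = y} := Nat.card_prod _ _
    _ ≤ Nat.card (a • M : Subgroup L) * Nat.card {y : L // a y = y} :=
        Nat.mul_le_mul_right _ (card_conj_le _ _ hA)
    _ = _ := by rw [hcard]

/-- a union bound -/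
lemma exists_good {ι : Type*} (S : Finset ι) (P : ι → L → Prop)
    (h : ∑ i ∈ S, Nat.card {y : L // P i y} < Nat.card L) : ∃ y : L, ∀ i ∈ S, ¬ P i y := by
  by_contra hcon
  push Not at hcon
  have : Fintype L := Fintype.ofFinite L
  have h1 : (Finset.univ : Finset L) ⊆ S.biUnion (fun i => Finset.univ.filter (P i)) := by
    intro y _
    obtain ⟨i, hi, hP⟩ := hcon y
    exact Finset.mem_biUnion.2 ⟨i, hi, Finset.mem_filter.2 ⟨Finset.mem_univ _, hP⟩⟩
  have h2 := (Finset.card_le_card h1).trans Finset.card_biUnion_le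
  rw [Finset.card_univ, ← Nat.card_eq_fintype_card] at h2
  have h3 : ∀ i ∈ S, (Finset.univ.filter (P i)).card = Nat.card {y : L // P i y} := by
    intro i _
    rw [Nat.card_eq_fintype_card, Fintype.card_subtype]
  rw [Finset.sum_congr rfl h3] at h2
  omega

/-- **Counting, pairs version.** -/
theorem spr_of_count (hna : ∃ x y : L, x * y ≠ y * x) {s : L} {𝓜 : Finset (Subgroup L)}
    (hco : ∀ M ∈ 𝓜, IsCoatom M) (h𝓜 : ∀ N : Subgroup L, IsCoatom N → s ∈ N → N ∈ 𝓜)
    (h : ∀ a : MulAut L, a ≠ 1 → 𝓜.card * (∑ M ∈ 𝓜, Nat.card M) * Nat.card {y : L // a y = y} < Nat.card L) :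
    Spr L := by
  refine spr_of_bad h𝓜 fun a ha => ?_
  obtain ⟨y, hy⟩ := exists_good (𝓜 ×ˢ 𝓜) (fun q y => a • (c y • q.1) = c y • q.2) (by
    refine lt_of_le_of_lt ?_ (h a ha)
    calc ∑ q ∈ 𝓜 ×ˢ 𝓜, Nat.card {y : L // a • (c y • q.1) = c y • q.2}
        ≤ ∑ q ∈ 𝓜 ×ˢ 𝓜, Nat.card q.1 * Nat.card {y : L // a y = y} := by
          apply Finset.sum_le_sum
          intro q hq
          exact card_swap_le a q.1 q.2 (normalizer_coatom hna (hco _ (Finset.mem_product.1 hq).1))
      _ = ∑ M ∈ 𝓜, ∑ M' ∈ 𝓜, Nat.card M * Nat.card {y : L // a y = y} := Finset.sum_product _ _ _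
      _ = _ := by
          simp only [Finset.sum_const, smul_eq_mul]
          rw [← Finset.mul_sum, ← Finset.sum_mul]
          ring)
  exact ⟨y, fun M hM M' hM' => hy (M, M') (Finset.mk_mem_product hM hM')⟩

/-- **Counting, fixed point version**: no two different members of `𝓜` are conjugate under `Aut L`. -/
theorem spr_of_fix {s : L} {𝓜 : Finset (Subgroup L)}
    (h𝓜 : ∀ N : Subgroup L, IsCoatom N → s ∈ N → N ∈ 𝓜)
    (hnc : ∀ M ∈ 𝓜, ∀ M' ∈ 𝓜, ∀ b : MulAut L, b • M = M' → M = M')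
    (h : ∀ a : MulAut L, a ≠ 1 → ∑ M ∈ 𝓜, Nat.card {y : L // a • (c y • M) = c y • M} < Nat.card L) :
    Spr L := by
  refine spr_of_bad h𝓜 fun a ha => ?_
  obtain ⟨y, hy⟩ := exists_good 𝓜 (fun M y => a • (c y • M) = c y • M) (h a ha)
  refine ⟨y, fun M hM M' hM' hh => ?_⟩
  have h1 : M = M' := by
    refine hnc M hM M' hM' (c y⁻¹ * a * c y) ?_
    rw [mul_smul, mul_smul, hh, smul_smul, ← map_mul, inv_mul_cancel, map_one, one_smul]
  subst h1
  exact hy M hM hh

end Cfsg.Agent.H424.Spr
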