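import Cfsg.Agent.H424.Spr.Two
import Cfsg.Agent.H981.Cov.RowU

/-!
# 3/2-generation, row `PSU_n(q)`, `n ≥ 10` (helper424, S3938)
-/

set_option autoImplicit false

namespace Cfsg.Agent.H424.SprSU

open Cfsg Cfsg.Geo Module Matrix
open Cfsg.Agent.LieClassical.HermBasic Cfsg.Agent.LieClassical.HermSiegel
open Cfsg.Agent.ClassicalGeometry.HermOrtho Cfsg.Agent.GpUn
open Cfsg.Agent.H278.Cov (Num Red Ext)
open Cfsg.Agent.H809.SelfCent (toG toG_injective toG_val)
open Cfsg.Agent.H424.Spr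

variable {F : Type} [Field F] [Fintype F] {n q : ℕ}

/-- the stabiliser of a subspace in `SU_n(q)` -/
def st (U : Submodule F (Fin n → F)) : Subgroup (SU n F q) where
  carrier := {g | ∀ u ∈ U, act g u ∈ U}
  one_mem' := fun u hu => by rw [act_one]; exact hu
  mul_mem' := fun {g h} hg hh u hu => by rw [act_mul]; exact hg _ (hh u hu)
  inv_mem' := fun {g} hg => act_mem_iff hg

theorem mem_st {U : Submodule F (Fin n → F)} {g : SU n F q} : g ∈ st U ↔ ∀ u ∈ U, act g u ∈ U := Iff.rfl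

theorem st_perp {U : Submodule F (Fin n → F)} : (st U : Subgroup (SU n F q)) ≤ st (hermPerp q (U : Set (Fin n → F))) := by
  intro g hg w hw
  exact act_perp (act_mem_iff hg) hw

/-- the overgroup theorem -/
theorem overgp (hP : Cfsg.Agent.H659.CovCore.S5948Stmt.{0}) (hF : Fintype.card F = q ^ 2) {k : ℕ} {s : SU n F q}
    (hnum : Num (q ^ 2) n k (orderOf s)) {K : Subgroup (SU n F q)} (hK : K ≠ ⊤) (hs : s ∈ K) :
    (∃ W : Submodule F (Fin n → F), W ≠ ⊥ ∧ W ≠ ⊤ ∧ K ≤ st W) ∨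
      ∃ (r : ℕ) (E : Subalgebra F (Matrix (Fin n) (Fin n) F)), r.Prime ∧ r ∣ Nat.gcd n k ∧ IsFieldSubalgebra r E ∧
        K.map (toG n F q) ≤ subalgebraNormalizer E := by
  set H := K.map (toG n F q) with hH
  have hgH : toG n F q s ∈ H := ⟨_, hs, rfl⟩
  have hfix : FixesForm (matrixSet H) (hermForm n F q) := by
    rintro _ ⟨_, ⟨z, hz, rfl⟩, rfl⟩ u v
    exact z.2 u v
  have hdet : ∀ z ∈ H, Matrix.GeneralLinearGroup.det z = 1 := by
    rintro _ ⟨z, hz, rfl⟩
    apply Units.ext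
    exact Cfsg.Agent.H674.SUTools.det_cm z
  have hne : ∃ z : GL (Fin n) F, FixesForm {(z : Matrix (Fin n) (Fin n) F)} (hermForm n F q) ∧
      Matrix.GeneralLinearGroup.det z = 1 ∧ z ∉ H := by
    obtain ⟨z, hz⟩ : ∃ z, z ∉ K := by
      by_contra hc
      push Not at hc
      exact hK (Subgroup.eq_top_iff' K |>.2 hc)
    refine ⟨toG n F q z, ?_, ?_, ?_⟩
    · intro w hw u v
      rw [Set.mem_singleton_iff.1 hw]
      exact z.2 u v
    · apply Units.ext
      exact Cfsg.Agent.H674.SUTools.det_cm z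
    · rintro ⟨w, hw, hwz⟩
      rw [toG_injective hwz] at hw
      exact hz hw
  have hos : orderOf (toG n F q s) = orderOf s := orderOf_injective _ toG_injective s
  have hog := Cfsg.Agent.H89.Cov.og_su hP hF (Cfsg.Agent.H981.Cov.isUnitaryForm_herm hF) hfix hdet hne hgH (k := k)
    (by rw [hos, Fintype.card_fin, hF]; exact hnum)
  rcases hog with ⟨W, hW0, hW1, hW⟩ | ⟨r, E, hr, hrd, hEf, hEK⟩
  · left
    refine ⟨W, hW0, hW1, fun z hz w hw => ?_⟩
    exact ((hW ⟨z, hz, rfl⟩) w).1 hw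
  · right
    rw [Fintype.card_fin] at hrd
    exact ⟨r, E, hr, hrd, hEf, hEK⟩

section sub

variable {l k : ℕ} {y : SU n F q}

/-- an invariant subspace or its orthogonal space lies in the fixed space -/
theorem le_or_perp_le (hF : Fintype.card F = q ^ 2) (hl : l.Prime) (hlF : (l : F) ≠ 0) (hy : y ^ l = 1) (hy1 : y ≠ 1)
    (hk : orderOf ((Nat.card F : ℕ) : ZMod l) = k) (hk0 : k ≠ 0) (hn : n < 2 * k) {W : Submodule F (Fin n → F)}
    (hW : ∀ w ∈ W, act y w ∈ W) : W ≤ fx y ∨ hermPerp q (W : Set (Fin n → F)) ≤ fx y := by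
  have hND := Cfsg.Agent.H779.DP.nd_fx hF hlF hy
  by_cases h0 : (W ⊓ Cfsg.Agent.H779.DP.Wx y : Submodule F (Fin n → F)) = ⊥
  · left
    intro w hw
    obtain ⟨a, ha, b, hb, hab⟩ := exists_add_perp hF (fx y) hND w
    have h1 : act y w - w ∈ W := W.sub_mem (hW w hw) hw
    have h2 : act y w - w = act y b - b := by
      have ha' : act y a = a := ha
      rw [hab, act_add, ha']
      abel
    have h3 : act y b - b ∈ Cfsg.Agent.H779.DP.Wx y :=
      Submodule.sub_mem _ (Cfsg.Agent.H779.DP.act_Wx rfl hb) hb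
    have h4 : act y w - w ∈ (W ⊓ Cfsg.Agent.H779.DP.Wx y : Submodule F (Fin n → F)) := ⟨h1, by rw [h2]; exact h3⟩
    rw [h0, Submodule.mem_bot] at h4
    exact sub_eq_zero.1 h4
  · right
    have h1 : (W ⊓ Cfsg.Agent.H779.DP.Wx y : Submodule F (Fin n → F)) = Cfsg.Agent.H779.DP.Wx y :=
      Cfsg.Agent.H779.DP.eq_Wx hF hl hlF hy hy1 hk hk0 hn inf_le_right
        (fun u hu => ⟨hW u hu.1, Cfsg.Agent.H779.DP.act_Wx rfl hu.2⟩) h0
    have h2 : Cfsg.Agent.H779.DP.Wx y ≤ W := by rw [← h1]; exact inf_le_left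
    intro v hv
    exact mem_perp_perp hF hND fun w hw => hv w (h2 hw)

/-- `n ≤ dim W + dim W^⊥` (copied from `H783.UniTrans`) -/
theorem le_finrank_perp (hF : Fintype.card F = q ^ 2) (W : Submodule F (Fin n → F)) :
    n ≤ finrank F W + finrank F (hermPerp q (W : Set (Fin n → F))) := by
  let b := finBasis F W
  let Φ : (Fin n → F) →ₗ[F] (Fin (finrank F W) → F) := LinearMap.pi fun i => hermLeft q (b i : Fin n → F)
  have h1 : LinearMap.ker Φ ≤ hermPerp q (W : Set (Fin n → F)) := by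
    intro v hv w hw
    rw [LinearMap.mem_ker] at hv
    have h2 : ∀ i, hermForm n F q v (b i : Fin n → F) = 0 := fun i => congrFun hv i
    have h3 : w = ∑ i, b.repr ⟨w, hw⟩ i • (b i : Fin n → F) := by
      have h4 := congrArg (Submodule.subtype W) (b.sum_repr ⟨w, hw⟩)
      rw [map_sum] at h4
      exact h4.symm
    rw [h3, herm_sum_right hF]
    refine Finset.sum_eq_zero fun i _ => ?_
    rw [herm_smul_right, h2, mul_zero]
  have h2 := LinearMap.finrank_range_add_finrank_ker Φ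
  have h3 : finrank F (LinearMap.range Φ) ≤ finrank F W := by
    refine (Submodule.finrank_le _).trans ?_
    rw [finrank_fin_fun]
  have h4 := Submodule.finrank_mono h1
  rw [finrank_fin_fun] at h2
  omega

theorem perp_ne_bot' (hF : Fintype.card F = q ^ 2) {W : Submodule F (Fin n → F)} (hW : W ≠ ⊤) :
    hermPerp q (W : Set (Fin n → F)) ≠ ⊥ := by
  intro h
  have h1 := le_finrank_perp hF W
  rw [h, finrank_bot] at h1
  have h2 := Submodule.finrank_lt hW
  rw [finrank_fin_fun] at h2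
  omega

/-- a subgroup stabilising a proper non-zero subspace and containing `y` stabilises a non-zero subspace of the fixed
space of `y` -/
theorem red_to_fix (hF : Fintype.card F = q ^ 2) (hl : l.Prime) (hlF : (l : F) ≠ 0) (hy : y ^ l = 1) (hy1 : y ≠ 1)
    (hk : orderOf ((Nat.card F : ℕ) : ZMod l) = k) (hk0 : k ≠ 0) (hn : n < 2 * k) {K : Subgroup (SU n F q)}
    (hyK : y ∈ K) {W : Submodule F (Fin n → F)} (hW0 : W ≠ ⊥) (hW1 : W ≠ ⊤) (hW : K ≤ st W) :
    ∃ U : Submodule F (Fin n → F), U ≠ ⊥ ∧ U ≤ fx y ∧ K ≤ st U := by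
  rcases le_or_perp_le hF hl hlF hy hy1 hk hk0 hn (W := W) (hW hyK) with h | h
  · exact ⟨W, hW0, h, hW⟩
  · exact ⟨_, perp_ne_bot' hF hW1, h, hW.trans st_perp⟩

end sub

theorem ne_zero_of_ord {l k : ℕ} (hl : l.Prime) (hk0 : k ≠ 0) (hk : orderOf ((Nat.card F : ℕ) : ZMod l) = k) :
    (l : F) ≠ 0 := by
  intro h
  have := Fact.mk hl
  have hc : CharP F l := by
    have h1 := CharP.exists F
    obtain ⟨p, hp⟩ := h1
    have h2 : p ∣ l := (CharP.cast_eq_zero_iff F p l).1 h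
    have hpp : p.Prime := CharP.char_is_prime F p
    rw [(Nat.prime_dvd_prime_iff_eq hpp hl).1 h2] at hp
    exact hp
  have h1 : ((Nat.card F : ℕ) : F) = 0 := by
    rw [Nat.card_eq_fintype_card]
    exact FiniteField.cast_card_eq_zero F
  have h2 : l ∣ Nat.card F := (CharP.cast_eq_zero_iff F l _).1 h1
  have h3 : ((Nat.card F : ℕ) : ZMod l) = 0 := (ZMod.natCast_eq_zero_iff _ _).2 h2
  rw [h3, orderOf_zero] at hk
  exact hk0 hk.symm

/-- the kernel of the projection to `PSU` stabilises all subspaces -/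
theorem ker_le_st (hF : Fintype.card F = q ^ 2) (hn : 3 ≤ n) (U : Submodule F (Fin n → F)) :
    (Cfsg.Agent.H674.SUBlock.pr : SU n F q →* PSU n F q).ker ≤ st U := by
  intro z hz
  rw [MonoidHom.mem_ker, Cfsg.Agent.H674.SUBlock.pr_eq_one_iff] at hz
  obtain ⟨c, -, -, hc⟩ := Cfsg.Agent.ClassicalGeometry.PSUAutBasic.exists_scalar_of_mem_center hF hn hz
  intro u hu
  rw [hc]
  exact U.smul_mem c hu

/-- `st U` is proper -/
theorem st_ne_top {D : ℕ → Prop} {z : SU n F q} (hz : Cfsg.Agent.H981.Cov.IsD z D) {U : Submodule F (Fin n → F)}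
    (hU : ¬ D (finrank F U)) : (st U : Subgroup (SU n F q)) ≠ ⊤ := by
  intro h
  apply hU
  apply hz
  intro w hw
  have h1 : z ∈ (st U : Subgroup (SU n F q)) := by rw [h]; trivial
  exact h1 w hw

open Cfsg.Agent.H981.Cov in
/-- an element without invariant lines, `n` even -/
theorem exists_noline (hF : Fintype.card F = q ^ 2) (hn : Even n) (hn10 : 10 ≤ n) :
    ∃ z : SU n F q, IsD z (fun t => ∃ i j, t = (n - 5) * i + 5 * j) := by
  obtain ⟨t, ht⟩ := hn
  have hodd : Odd (n - 5) := ⟨t - 3, by omega⟩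
  obtain ⟨l₂, B₂, hl₂, hu₂⟩ := exists_odd_block hF (k := 5) (by decide) (by norm_num) (by omega)
  rcases eq_or_lt_of_le hn10 with h | h
  · obtain ⟨z, hz⟩ := exists_double hF (n := n) (k := 5) (by omega) B₂ hu₂
    refine ⟨z, fun W hW => ?_⟩
    obtain ⟨i, hi⟩ := hz W hW
    exact ⟨0, i, by rw [hi]; ring⟩
  · obtain ⟨l₁, B₁, hl₁, hu₁⟩ := exists_odd_block hF (k := n - 5) hodd (by omega) (by omega)
    obtain ⟨z, hz, -, -⟩ := exists_pair (n := n) hF (d := n - 5) (e := 5) (by omega) hu₁ hu₂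
      (coprime_of_ne B₁.pr B₂.pr (ne_of_prim hl₁ hl₂ (by omega))) dvd_rfl dvd_rfl B₁ B₂
    refine ⟨z, fun W hW => ?_⟩
    obtain ⟨i, j, hi, -⟩ := hz W hW
    exact ⟨i, j, hi⟩

open Cfsg.Agent.H981.Cov in
/-- `n` even, `n ≥ 10`, `(n, q) ≠ (10, 2)` : elements `[n - 1] + [1]` -/
theorem row_even (hP : Cfsg.Agent.H659.CovCore.S5948Stmt.{0}) (hF : Fintype.card F = q ^ 2) (hn : Even n)
    (hn10 : 10 ≤ n) (hex : ¬ (n = 10 ∧ q = 2)) [IsSimpleGroup (PSU n F q)] [Finite (PSU n F q)]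
    (hna : ∃ x y : PSU n F q, x * y ≠ y * x) : Spr (PSU n F q) := by
  have hqp := isPrimePow_q hF
  have hn' := hn
  obtain ⟨t, ht⟩ := hn
  have hodd : Odd (n - 1) := ⟨t - 1, by omega⟩
  obtain ⟨m, hm, num⟩ := Cfsg.Agent.H906.Cov.exists_num_u (n := n) (k := n - 1) hqp (by omega) (by omega) (by omega) hodd (by omega)
  obtain ⟨s, hs, -⟩ := exists_big (n := n) hF (c := 1) (k := n - 1) (by omega) hodd (by omega) (by omega) hm num
  rw [pow_one] at hs
  obtain ⟨l, hl, hlm, -⟩ := num.sub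
  have hk : orderOf ((Nat.card F : ℕ) : ZMod l) = n - 1 := num_ord hF (by omega) num hl hlm
  have hm0 : m ≠ 0 := by rw [← hs]; exact (orderOf_pos s).ne'
  set y := s ^ (m / l) with hy
  have hyo : orderOf y = l := by
    rw [hy, ← hs]
    exact orderOf_pow_orderOf_div (by rw [hs]; exact hm0) (by rw [hs]; exact hlm)
  have hyl : y ^ l = 1 := by rw [← hyo, pow_orderOf_eq_one]
  have hy1 : y ≠ 1 := fun h => by rw [h, orderOf_one] at hyo; exact hl.one_lt.ne hyo
  have hlF := ne_zero_of_ord hl (by omega) hk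
  have hfin := Cfsg.Agent.H779.DP.finrank_fx hl hyl hy1 hk (by omega) (by omega)
  have hd1 : finrank F (fx y) = 1 := by omega
  obtain ⟨z, hz⟩ := exists_noline hF hn' hn10
  refine spr_of_one_up hna (Cfsg.Agent.H674.SUBlock.pr : SU n F q →* PSU n F q)
    Cfsg.Agent.H674.SUBlock.pr_surjective (s := s) (M := st (fx y)) (ker_le_st hF (by omega) _) ?_ ?_
  · apply st_ne_top hz
    rw [hd1]
    rintro ⟨i, j, hij⟩
    rcases Nat.eq_zero_or_pos i with h | h
    · subst h
      omega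
    · have : (n - 5) * 1 ≤ (n - 5) * i := Nat.mul_le_mul_left _ h
      omega
  · intro K _ hsK hK
    have hyK : y ∈ K := K.pow_mem hsK _
    rcases overgp hP hF (s := s) (k := n - 1) (by rw [hs]; exact num) hK hsK with ⟨W, hW0, hW1, hW⟩ | ⟨r, E, hr, hrd, -, -⟩
    · obtain ⟨U, hU0, hU, hKU⟩ := red_to_fix hF hl hlF hyl hy1 hk (by omega) (by omega) hyK hW0 hW1 hW
      have : U = fx y := by
        apply Submodule.eq_of_le_of_finrank_le hU
        rw [hd1]
        exact Nat.one_le_iff_ne_zero.2 fun h => hU0 (Submodule.finrank_eq_zero.1 h)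
      rwa [this] at hKU
    · exfalso
      have h1 := dvd_sub_of_gcd hrd
      rw [show n - (n - 1) = 1 by omega] at h1
      exact hr.one_lt.ne' (Nat.dvd_one.1 h1)

end Cfsg.Agent.H424.SprSU
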