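import Cfsg.Agent.H424.Spr.SU
import Cfsg.Agent.H518.DghpPSU

/-!
# 3/2-generation, row `PSU_n(q)`, `n ≥ 11` odd (helper424, S3938): elements `[n - 2] + J₂`
-/

set_option autoImplicit false
set_option linter.unusedSectionVars false

namespace Cfsg.Agent.H424.SprSU

open Cfsg Cfsg.Geo Module Matrix
open Cfsg.Agent.LieClassical.HermBasic Cfsg.Agent.LieClassical.HermSiegel
open Cfsg.Agent.ClassicalGeometry.HermOrtho Cfsg.Agent.GpUn
open Cfsg.Agent.H278.Cov (Num Red Ext)
open Cfsg.Agent.H809.SelfCent (toG toG_injective toG_val)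
open Cfsg.Agent.H779.DP (rho rho_apply rho_injective)
open Cfsg.Agent.H981.Cov (fd bk bk_injective fd_bk Bl IsD eq_one_of_fd)
open Cfsg.Agent.H424.Spr

variable {F : Type} [Field F] [Fintype F] {n q : ℕ}

/-- image of a subspace -/
noncomputable def im (g : SU n F q) (U : Submodule F (Fin n → F)) : Submodule F (Fin n → F) :=
  U.map ((Cfsg.Agent.H981.Cov.le g : (Fin n → F) ≃ₗ[F] (Fin n → F)) : (Fin n → F) →ₗ[F] (Fin n → F))

theorem mem_im {g : SU n F q} {U : Submodule F (Fin n → F)} {w : Fin n → F} : w ∈ im g U ↔ act g⁻¹ w ∈ U := by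
  constructor
  · rintro ⟨u, hu, rfl⟩
    have : (Cfsg.Agent.H981.Cov.le g : (Fin n → F) →ₗ[F] (Fin n → F)) u = act g u := by
      rw [← rho_apply]; rfl
    rw [this, ← act_mul, inv_mul_cancel, act_one]
    exact hu
  · intro h
    refine ⟨act g⁻¹ w, h, ?_⟩
    have : (Cfsg.Agent.H981.Cov.le g : (Fin n → F) →ₗ[F] (Fin n → F)) (act g⁻¹ w) = act g (act g⁻¹ w) := by
      rw [← rho_apply]; rfl
    rw [this, ← act_mul, mul_inv_cancel, act_one]

theorem finrank_im (g : SU n F q) (U : Submodule F (Fin n → F)) : finrank F (im g U) = finrank F U :=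
  LinearEquiv.finrank_map_eq _ _

theorem map_st (g : SU n F q) (U : Submodule F (Fin n → F)) :
    (st U).map (MulAut.conj g).toMonoidHom = st (im g U) := by
  ext x
  constructor
  · rintro ⟨z, hz, rfl⟩
    intro w hw
    rw [mem_im] at hw ⊢
    change act g⁻¹ (act (g * z * g⁻¹) w) ∈ U
    rw [← act_mul]
    have e : g⁻¹ * (g * z * g⁻¹) = z * g⁻¹ := by group
    rw [e, act_mul]
    exact hz _ hw
  · intro hx
    refine ⟨g⁻¹ * x * g, ?_, ?_⟩
    · intro u hu
      have h1 : act g u ∈ im g U := by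
        rw [mem_im, ← act_mul, inv_mul_cancel, act_one]
        exact hu
      have h2 := hx _ h1
      rw [mem_im] at h2
      rw [act_mul, act_mul]
      exact h2
    · change g * (g⁻¹ * x * g) * g⁻¹ = x
      group

/-- the fixed space of the linear map is the fixed space -/
theorem fx_eq (g : SU n F q) : Cfsg.Agent.H981.Cov.fx (rho n F q g) = fx g := by
  ext v
  rw [Cfsg.Agent.H981.Cov.mem_fx, rho_apply]
  exact Iff.rfl

theorem fd_eq (g : SU n F q) : fd g = finrank F (fx g) := by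
  unfold fd
  rw [fx_eq]

/-- elements of order `p` of `SU_2(q)` -/
theorem exists_unip (hF : Fintype.card F = q ^ 2) {p : ℕ} (hp : p.Prime) (hpq : p ∣ q) :
    ∃ u : SU 2 F q, u ^ p = 1 ∧ u ≠ 1 ∧ fd u = 1 := by
  have := Fact.mk hp
  have h1 : p ∣ Nat.card (SU 2 F q) := hpq.trans (Cfsg.Agent.H518.DghpMat.dvd_card_SU_char hF le_rfl)
  obtain ⟨u, hu⟩ := exists_prime_orderOf_dvd_card' p h1
  have hu1 : u ^ p = 1 := by rw [← hu, pow_orderOf_eq_one]
  have hune : u ≠ 1 := fun h => by rw [h, orderOf_one] at hu; exact hp.one_lt.ne hu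
  refine ⟨u, hu1, hune, ?_⟩
  have h2 : fd u ≤ 2 := Cfsg.Agent.H981.Cov.fd_le u
  have h3 : fd u ≠ 2 := fun h => hune (eq_one_of_fd h)
  have h4 : fd u ≠ 0 := by
    intro h0
    have hT : (rho 2 F q u) ^ p = 1 := by rw [← map_pow, hu1, map_one]
    have h5 := Cfsg.Agent.H981.Cov.card_modEq hp hT (W := ⊤) (fun _ _ => trivial)
    rw [top_inf_eq] at h5
    have h6 : Cfsg.Agent.H981.Cov.fx (rho 2 F q u) = ⊥ := Submodule.finrank_eq_zero.1 h0
    rw [h6, Cfsg.Agent.H981.Cov.card_submodule, Cfsg.Agent.H981.Cov.card_submodule, finrank_bot, pow_zero,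
      finrank_top, finrank_fin_fun, Nat.card_eq_fintype_card, hF] at h5
    have h7 : (q ^ 2) ^ 2 ≡ 0 [MOD p] := (Nat.modEq_zero_iff_dvd.2 (dvd_pow (dvd_pow hpq (by norm_num)) (by norm_num)))
    have h8 : 1 ≡ 0 [MOD p] := h5.symm.trans h7
    exact hp.one_lt.ne' (Nat.dvd_one.1 (Nat.modEq_zero_iff_dvd.1 h8))
  omega

/-- the geometry of an element `[n - 2] + J₂`: `y` is a power of `s` of prime order with a two-dimensional fixed
space on which `s ^ p` is trivial, and the fixed space of `s` is a line -/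
theorem line_or_plane (hF : Fintype.card F = q ^ 2) {p : ℕ} (hp : p.Prime) (hpq : p ∣ q) {s y : SU n F q}
    (h2 : finrank F (fx y) = 2) (h1 : finrank F (fx s) = 1) (hsp : ∀ a ∈ fx y, act (s ^ p) a = a)
    {U : Submodule F (Fin n → F)} (hU0 : U ≠ ⊥) (hU : U ≤ fx y) (hs : ∀ u ∈ U, act s u ∈ U) :
    U = fx s ∨ U = fx y := by
  have h3 : finrank F U ≠ 0 := fun h => hU0 (Submodule.finrank_eq_zero.1 h)
  have h4 := Submodule.finrank_mono hU
  rcases (by omega : finrank F U = 1 ∨ finrank F U = 2) with h | h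
  · left
    obtain ⟨w, hw0, hw⟩ := finrank_eq_one_iff'.1 h
    obtain ⟨c, hc⟩ := hw ⟨act s w, hs w w.2⟩
    have hc' : act s (w : Fin n → F) = c • (w : Fin n → F) := (congrArg Subtype.val hc).symm
    have hpow : ∀ k : ℕ, act (s ^ k) (w : Fin n → F) = c ^ k • (w : Fin n → F) := by
      intro k
      induction k with
      | zero => rw [pow_zero, act_one, pow_zero, one_smul]
      | succ k ih => rw [pow_succ', act_mul, ih, act_smul, hc', smul_smul, pow_succ]
    have hw0' : (w : Fin n → F) ≠ 0 := fun h => hw0 (Subtype.ext h)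
    have hcp : c ^ p = 1 := by
      have h5 := hsp _ (hU w.2)
      rw [hpow] at h5
      have h6 : (c ^ p - 1) • (w : Fin n → F) = 0 := by rw [sub_smul, h5, one_smul, sub_self]
      exact sub_eq_zero.1 ((smul_eq_zero.1 h6).resolve_right hw0')
    have hc1 : c = 1 := by
      have hcharp : CharP F p := by
        obtain ⟨r, hr⟩ := CharP.exists F
        have hrr : r.Prime := CharP.char_is_prime F r
        have h5 : r ∣ q ^ 2 := by
          rw [← hF, ← CharP.cast_eq_zero_iff F r, FiniteField.cast_card_eq_zero]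
        have h6 : r ∣ q := hrr.dvd_of_dvd_pow h5
        obtain ⟨b, k, hb, hk, hbk⟩ := Cfsg.Agent.H981.Cov.isPrimePow_q hF
        have hb' : b.Prime := hb.nat_prime
        have e1 : r = b := (Nat.prime_dvd_prime_iff_eq hrr hb').1 (hrr.dvd_of_dvd_pow (hbk ▸ h6))
        have e2 : p = b := (Nat.prime_dvd_prime_iff_eq hp hb').1 (hp.dvd_of_dvd_pow (hbk ▸ hpq))
        rw [e2, ← e1]
        exact hr
      have := Fact.mk hp
      have h5 : (c - 1) ^ p = 0 := by rw [sub_pow_char, hcp, one_pow, sub_self]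
      exact sub_eq_zero.1 (pow_eq_zero_iff hp.ne_zero |>.1 h5)
    have hwf : (w : Fin n → F) ∈ fx s := by rw [mem_fx, hc', hc1, one_smul]
    have hle : U ≤ fx s := by
      intro u hu
      obtain ⟨d, hd⟩ := hw ⟨u, hu⟩
      have : u = d • (w : Fin n → F) := (congrArg Subtype.val hd).symm
      rw [this]
      exact (fx s).smul_mem d hwf
    exact Submodule.eq_of_le_of_finrank_le hle (by rw [h1, h])
  · right
    exact Submodule.eq_of_le_of_finrank_le hU (by rw [h2, h])

open Cfsg.Agent.H981.Cov in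
/-- `n` odd, `n ≥ 11`, `(n, q) ≠ (11, 2)` : elements `[n - 2] + J₂` -/
theorem row_odd (hP : Cfsg.Agent.H659.CovCore.S5948Stmt.{0}) (hF : Fintype.card F = q ^ 2) (hn : Odd n)
    (hn11 : 11 ≤ n) (hex : ¬ (n = 11 ∧ q = 2)) [IsSimpleGroup (PSU n F q)] [Finite (PSU n F q)]
    (hna : ∃ x y : PSU n F q, x * y ≠ y * x) : Spr (PSU n F q) := by
  have hqp := isPrimePow_q hF
  have hn' := hn
  obtain ⟨t, ht⟩ := hn
  have hodd : Odd (n - 2) := ⟨t - 1, by omega⟩
  obtain ⟨p, hp, hpq⟩ : ∃ p, p.Prime ∧ p ∣ q := by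
    have := two_le_q hF
    exact ⟨q.minFac, Nat.minFac_prime (by omega), Nat.minFac_dvd q⟩
  obtain ⟨m, hm, num⟩ := Cfsg.Agent.H906.Cov.exists_num_u (n := n) (k := n - 2) hqp (by omega) (by omega) (by omega)
    hodd (by omega)
  obtain ⟨l, hl, hlm, -⟩ := num.sub
  have hk : orderOf ((Nat.card F : ℕ) : ZMod l) = n - 2 := num_ord hF (by omega) num hl hlm
  -- `p` is prime to `m`
  have hpm : Nat.Coprime p m := by
    rw [Nat.Prime.coprime_iff_not_dvd hp]
    intro h
    have h1 := h.trans num.dvd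
    have h2 : p ∣ (q ^ 2) ^ (n - 2) := dvd_pow (dvd_pow hpq (by norm_num)) (by omega)
    have h3 : 1 ≤ (q ^ 2) ^ (n - 2) := Nat.one_le_pow _ _ (by have := two_le_q hF; positivity)
    have h4 := Nat.dvd_sub h2 h1
    rw [Nat.sub_sub_self h3] at h4
    exact hp.one_lt.ne' (Nat.dvd_one.1 h4)
  obtain ⟨v, hv⟩ := exists_tor hF hodd (by omega) (by omega) hm (num_coprime hF (by omega) num)
  obtain ⟨u, hup, hu1, hfu⟩ := exists_unip hF hp hpq
  have hm0 : m ≠ 0 := by rw [← hv]; exact (orderOf_pos v).ne'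
  have hn2 : n = 2 + (n - 2) := by omega
  obtain ⟨s, a, ha, hsa, hsp, hfa⟩ : ∃ (s a : SU n F q), orderOf a = m ∧ fd s = 1 ∧ s ^ p = a ∧ 2 ≤ fd a := by
    rw [hn2]
    have hvf : fd v = 0 := by
      have B : Bl F q (n - 2) (n - 2) l := Bl.self hl (by omega) hk
      have h1 : orderOf (v ^ (m / l)) = l := by
        rw [← hv]
        exact orderOf_pow_orderOf_div (by rw [hv]; exact hm0) (by rw [hv]; exact hlm)
      have h2 := B.ff (v ^ (m / l)) (by nth_rewrite 2 [← h1]; exact pow_orderOf_eq_one _) (by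
        intro h
        rw [h, orderOf_one] at h1
        exact hl.one_lt.ne h1)
      rw [fd_eq] at h2 ⊢
      have h3 : fx v ≤ fx (v ^ (m / l)) := fun w hw => act_pow_fix _ hw
      have := Submodule.finrank_mono h3
      omega
    refine ⟨bk hF (u, v), bk hF (1, v ^ p), ?_, ?_, ?_, ?_⟩
    · rw [orderOf_injective _ (bk_injective hF), Prod.orderOf_mk, orderOf_one, Nat.lcm_one_left,
        Nat.Coprime.orderOf_pow (by rw [hv]; exact hpm.symm), hv]
    · rw [fd_bk, hfu, hvf]
    · rw [← map_pow, Prod.pow_mk, hup]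
    · rw [fd_bk, fd_one]
      omega
  set y := a ^ (m / l) with hy
  have hyo : orderOf y = l := by
    rw [hy, ← ha]
    exact orderOf_pow_orderOf_div (by rw [ha]; exact hm0) (by rw [ha]; exact hlm)
  have hyl : y ^ l = 1 := by rw [← hyo, pow_orderOf_eq_one]
  have hy1 : y ≠ 1 := fun h => by rw [h, orderOf_one] at hyo; exact hl.one_lt.ne hyo
  have hlF := ne_zero_of_ord hl (by omega) hk
  have hfin := Cfsg.Agent.H779.DP.finrank_fx hl hyl hy1 hk (by omega) (by omega)
  have hd2 : finrank F (fx y) = 2 := by omega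
  have hd1 : finrank F (fx s) = 1 := by rw [← fd_eq]; exact hsa
  have hfay : fx a = fx y := by
    apply Submodule.eq_of_le_of_finrank_le (fun w hw => act_pow_fix _ hw)
    rw [hd2, ← fd_eq]
    exact hfa
  have hspa : ∀ b ∈ fx y, act (s ^ p) b = b := by
    intro b hb
    rw [hsp]
    rw [← hfay] at hb
    exact hb
  have hys : y = s ^ (p * (m / l)) := by rw [hy, ← hsp, ← pow_mul]
  have hcomm : ∀ w ∈ fx y, act s w ∈ fx y := by
    intro w hw
    have hw' : act y w = w := hw
    change act y (act s w) = act s w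
    rw [← act_mul, show y * s = s * y by rw [hys]; exact (Commute.self_pow s _).symm.eq, act_mul, hw']
  obtain ⟨l₀, B₀, hl₀, hu₀⟩ := exists_odd_block hF (k := n) hn' (by omega) (by omega)
  obtain ⟨z, hz⟩ := exists_single B₀ hu₀
  have noD : ∀ d, 0 < d → d < n → ¬ ∃ i, d = n * i := by
    rintro d h0 h1 ⟨i, hi⟩
    rcases Nat.eq_zero_or_pos i with h | h
    · subst h; omega
    · have : n * 1 ≤ n * i := Nat.mul_le_mul_left _ h
      omega
  have cover : ∀ K : Subgroup (SU n F q), s ∈ K → ∀ W : Submodule F (Fin n → F), W ≠ ⊥ → W ≠ ⊤ → K ≤ st W →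
      K ≤ st (fx s) ∨ K ≤ st (fx y) := by
    intro K hsK W hW0 hW1 hW
    have hyK : y ∈ K := by rw [hys]; exact K.pow_mem hsK _
    obtain ⟨U, hU0, hU, hKU⟩ := red_to_fix hF hl hlF hyl hy1 hk (by omega) (by omega) hyK hW0 hW1 hW
    rcases line_or_plane hF hp hpq hd2 hd1 hspa hU0 hU (hKU hsK) with h | h
    · left; rwa [h] at hKU
    · right; rwa [h] at hKU
  refine spr_of_two_up hna (Cfsg.Agent.H674.SUBlock.pr : SU n F q →* PSU n F q)
    Cfsg.Agent.H674.SUBlock.pr_surjective (s := s) (M₁ := st (fx s)) (M₂ := st (fx y)) (ker_le_st hF (by omega) _)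
    (ker_le_st hF (by omega) _) ?_ ?_ ?_ ?_
  · exact st_ne_top hz (by rw [hd1]; exact noD 1 (by omega) (by omega))
  · exact st_ne_top hz (by rw [hd2]; exact noD 2 (by omega) (by omega))
  · intro g hg
    rw [map_st] at hg
    have h1 : ∀ w ∈ im g (fx s), act s w ∈ im g (fx s) := by
      have : s ∈ st (im g (fx s)) := by rw [hg]; exact hcomm
      exact this
    have h2 : ∀ w ∈ im g (fx s), act y w ∈ im g (fx s) := by
      intro w hw
      rw [hys]
      exact act_pow_mem h1 _ hw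
    have h3 : im g (fx s) ≤ fx y := by
      rcases le_or_perp_le hF hl hlF hyl hy1 hk (by omega) (by omega) h2 with h | h
      · exact h
      · exfalso
        have h4 := Submodule.finrank_mono h
        have h5 := le_finrank_perp hF (im g (fx s))
        rw [finrank_im, hd1] at h5
        omega
    have h4 : im g (fx s) ≠ ⊥ := by
      intro h
      have := finrank_im g (fx s)
      rw [h, finrank_bot, hd1] at this
      omega
    rcases line_or_plane hF hp hpq hd2 hd1 hspa h4 h3 h1 with h | h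
    · rw [← hg, h]
    · exfalso
      have := finrank_im g (fx s)
      rw [h, hd2, hd1] at this
      omega
  · intro K _ hsK hK
    have haK : a ∈ K := by rw [← hsp]; exact K.pow_mem hsK _
    rcases overgp hP hF (s := a) (k := n - 2) (by rw [ha]; exact num) hK haK with ⟨W, hW0, hW1, hW⟩ | ⟨r, E, hr, hrd, -, -⟩
    · exact cover K hsK W hW0 hW1 hW
    · exfalso
      have h2 := dvd_sub_of_gcd hrd
      rw [show n - (n - 2) = 2 by omega] at h2
      have h3 : r = 2 := (Nat.prime_dvd_prime_iff_eq hr Nat.prime_two).1 h2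
      have h4 := hrd.trans (Nat.gcd_dvd_left _ _)
      rw [h3] at h4
      omega

end Cfsg.Agent.H424.SprSU
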