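import Cfsg.Agent.H424.Spr.SU
import Cfsg.Agent.H424.Spr.SUodd
import Cfsg.Agent.H981.Spr.TenTwo
import Cfsg.Agent.H981.Spr.ElevenTwo
import Cfsg.Agent.S0283
import Cfsg.Agent.CpAut.Fix

/-!
# S3938: the row `PSU_n(q)`, `n ≥ 10` (helper424, helper981)

`SprSU.spr_psu` : `Spr (PSU n F q)` for `n ≥ 10`, modulo the texts of S5948 and S5842.
-/

set_option autoImplicit false

namespace Cfsg.Agent.H424.SprSU

open Cfsg
open Cfsg.Agent.H424.Spr (Spr)

/-- **the row `PSU_n(q)`, `n ≥ 10`** -/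
theorem spr_psu (hP : Cfsg.Agent.H659.CovCore.S5948Stmt.{0}) (h42 : Cfsg.Agent.H981.Cov.S5842Stmt) {n q : ℕ}
    {F : Type} [Field F] [Fintype F] (hF : Fintype.card F = q ^ 2) (hn : 10 ≤ n) : Spr (PSU n F q) := by
  have hS : IsSimpleGroup (PSU n F q) := Cfsg.Agent.S0283.result hF n (by omega) (by omega)
  have hfin : Finite (PSU n F q) := Quotient.finite _
  have hna : ∃ x y : PSU n F q, x * y ≠ y * x := by
    by_contra hcon
    push Not at hcon
    exact Cfsg.Agent.CpAut.Fix.not_comm_quot (H := SU n F q) (hs := hS) ⟨⟨hcon⟩⟩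
  rcases Nat.even_or_odd n with he | ho
  · by_cases h : n = 10 ∧ q = 2
    · obtain ⟨rfl, rfl⟩ := h
      exact Cfsg.Agent.H981.Spr.row_ten_two h42 hF hna
    · exact row_even hP hF he hn h hna
  · have hn11 : 11 ≤ n := by
      obtain ⟨t, rfl⟩ := ho
      omega
    by_cases h : n = 11 ∧ q = 2
    · obtain ⟨rfl, rfl⟩ := h
      exact Cfsg.Agent.H981.Spr.row_eleven_two hP hF hna
    · exact row_odd hP hF ho hn11 h hna

end Cfsg.Agent.H424.SprSU
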